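import Mathlib

/-!
# A generator `s` of a finite field with `s` and `1 + s` squares
-/

set_option autoImplicit false

open scoped Classical

namespace CfsgLib.SL2Pres

variable {p : ℕ} [Fact p.Prime] {F : Type*} [Field F] [Finite F] [Algebra (ZMod p) F]

/-- An element lying in no proper subfield generates. -/
theorem adjoin_eq_top_of_not_fixed {n : ℕ} (hn : Nat.card F = p ^ n) {s : F}
    (h : ∀ d, 1 ≤ d → 2 * d ≤ n → s ^ p ^ d ≠ s) : Algebra.adjoin (ZMod p) ({s} : Set F) = ⊤ := by
  have hp : p.Prime := Fact.out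
  have hint : IsIntegral (ZMod p) s := Algebra.IsIntegral.isIntegral s
  rw [← IntermediateField.adjoin_simple_toSubalgebra_of_isAlgebraic hint.isAlgebraic,
    ← IntermediateField.top_toSubalgebra]
  congr 1
  set K := IntermediateField.adjoin (ZMod p) ({s} : Set F) with hK
  have hmul : Module.finrank (ZMod p) K * Module.finrank K F = Module.finrank (ZMod p) F :=
    Module.finrank_mul_finrank (ZMod p) K F
  have hF : Module.finrank (ZMod p) F = n := by
    have := Module.natCard_eq_pow_finrank (K := ZMod p) (V := F)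
    rw [hn, Nat.card_zmod] at this
    exact (Nat.pow_right_injective hp.two_le this).symm
  have hcard : Nat.card K = p ^ Module.finrank (ZMod p) K := by
    rw [Module.natCard_eq_pow_finrank (K := ZMod p) (V := K), Nat.card_zmod]
  set d := Module.finrank (ZMod p) K with hd
  have hd0 : 0 < d := Module.finrank_pos
  by_contra hne
  have hlt : Module.finrank K F ≠ 1 := fun h1 => hne (by
    refine IntermediateField.eq_of_le_of_finrank_eq le_top ?_
    rw [IntermediateField.finrank_top', ← hmul, h1, mul_one])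
  have hpos : 0 < Module.finrank K F := Module.finrank_pos
  have h2 : 2 * d ≤ n := by
    rw [← hF, ← hmul, mul_comm 2]
    exact Nat.mul_le_mul_left _ (by omega)
  have hs : s ∈ K := IntermediateField.mem_adjoin_simple_self (ZMod p) s
  cases nonempty_fintype K
  have := FiniteField.pow_card (⟨s, hs⟩ : K)
  rw [← Nat.card_eq_fintype_card, hcard] at this
  exact h d hd0 h2 (congrArg Subtype.val this)

theorem adjoin_eq_top_of_prime (hn : Nat.card F = p) (s : F) :
    Algebra.adjoin (ZMod p) ({s} : Set F) = ⊤ :=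
  adjoin_eq_top_of_not_fixed (n := 1) (by simpa using hn) fun d h1 h2 => absurd h2 (by omega)

theorem sum_pow_le {p : ℕ} (hp : 3 ≤ p) (k : ℕ) : 2 * ∑ d ∈ Finset.Icc 1 k, p ^ d ≤ p ^ (k + 1) := by
  induction k with
  | zero => simp
  | succ k ih =>
    rw [Finset.sum_Icc_succ_top (by omega : 1 ≤ k + 1), mul_add, pow_succ p (k + 1)]
    calc _ ≤ p ^ (k + 1) + 2 * p ^ (k + 1) := Nat.add_le_add_right ih _
      _ = p ^ (k + 1) * 3 := by ring
      _ ≤ _ := Nat.mul_le_mul_left _ hp

/-- For odd `q ≠ 9` which is not a prime some generator `s` has `s` and `1 + s` non-zero squares. -/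
theorem exists_square_gen {n : ℕ} (hn : Nat.card F = p ^ n) (h2 : 2 ≤ n) (hp3 : 3 ≤ p)
    (h9 : ¬ (p = 3 ∧ n = 2)) :
    ∃ s x y : F, x ≠ 0 ∧ y ≠ 0 ∧ x ^ 2 = s ∧ y ^ 2 = 1 + s ∧
      Algebra.adjoin (ZMod p) ({s} : Set F) = ⊤ := by
  have hp : p.Prime := Fact.out
  cases nonempty_fintype F
  rw [Nat.card_eq_fintype_card] at hn
  have htwo : (2 : F) ≠ 0 := by
    intro h
    haveI : CharP F p := (Algebra.charP_iff (ZMod p) F p).1 (ZMod.charP p)
    have : ((2 : ℕ) : F) = 0 := by exact_mod_cast h
    have := Nat.le_of_dvd two_pos ((CharP.cast_eq_zero_iff F p 2).1 this)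
    omega
  by_contra hall
  push Not at hall
  let g : F → F := fun r => ((r⁻¹ - r) / 2) ^ 2
  let R := Finset.univ.filter fun r : F => r ≠ 0 ∧ r * r ≠ 1 ∧ r * r ≠ -1
  let bad : Finset F := (Finset.Icc 1 (n / 2)).biUnion fun d =>
    (Polynomial.X ^ p ^ d - Polynomial.X : Polynomial F).roots.toFinset
  have hbad : bad.card ≤ ∑ d ∈ Finset.Icc 1 (n / 2), p ^ d := by
    refine Finset.card_biUnion_le.trans (Finset.sum_le_sum fun d hd => ?_)
    refine (Multiset.toFinset_card_le _).trans ((Polynomial.card_roots' _).trans (le_of_eq ?_))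
    exact FiniteField.X_pow_card_sub_X_natDegree_eq F (Nat.one_lt_pow (by simp at hd; omega) hp.one_lt)
  have hR : Fintype.card F ≤ R.card + 5 := by
    have hsub : (Finset.univ : Finset F) ⊆ R ∪ ({0} ∪ ((Polynomial.X ^ 2 - Polynomial.C (1 : F)).roots.toFinset ∪
        (Polynomial.X ^ 2 - Polynomial.C (-1 : F)).roots.toFinset)) := by
      intro r _
      simp only [R, Finset.mem_union, Finset.mem_filter, Finset.mem_univ, true_and, Finset.mem_singleton,
        Multiset.mem_toFinset, Polynomial.mem_roots (Polynomial.X_pow_sub_C_ne_zero two_pos _),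
        Polynomial.IsRoot.def, Polynomial.eval_sub, Polynomial.eval_pow, Polynomial.eval_X,
        Polynomial.eval_C, sub_eq_zero]
      simp only [pow_two]
      tauto
    have h1 := (Finset.card_le_card hsub).trans ((Finset.card_union_le _ _).trans
      (Nat.add_le_add_left ((Finset.card_union_le _ _).trans (Nat.add_le_add_left (Finset.card_union_le _ _) _)) _))
    have hdeg : ∀ c : F, (Polynomial.X ^ 2 - Polynomial.C c).roots.toFinset.card ≤ 2 := fun c =>
      (Multiset.toFinset_card_le _).trans ((Polynomial.card_roots' _).trans (by rw [Polynomial.natDegree_X_pow_sub_C]))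
    have := hdeg 1
    have := hdeg (-1)
    simp only [Finset.card_univ, Finset.card_singleton] at h1
    omega
  have himg : R.image g ⊆ bad.erase 0 := by
    intro s hs
    obtain ⟨r, hr, rfl⟩ := Finset.mem_image.1 hs
    obtain ⟨hr0, hr1, hr2⟩ := (Finset.mem_filter.1 hr).2
    have hx : (r⁻¹ - r) / 2 ≠ 0 := by
      refine div_ne_zero (fun e => hr1 ?_) htwo
      field_simp at e
      linear_combination -e
    have hy : (r⁻¹ + r) / 2 ≠ 0 := by
      refine div_ne_zero (fun e => hr2 ?_) htwo
      field_simp at e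
      linear_combination e
    have hxy : ((r⁻¹ + r) / 2) ^ 2 = 1 + g r := by
      simp only [g]
      field_simp
      ring
    have h1 : Algebra.adjoin (ZMod p) ({g r} : Set F) ≠ ⊤ := fun e => hall (g r) _ _ hx hy rfl hxy e
    refine Finset.mem_erase.2 ⟨pow_ne_zero 2 hx, ?_⟩
    by_contra hnb
    refine h1 (adjoin_eq_top_of_not_fixed (n := n) (by rw [Nat.card_eq_fintype_card]; exact hn) fun d hd1 hd2 e => hnb ?_)
    simp only [bad, Finset.mem_biUnion, Finset.mem_Icc, Multiset.mem_toFinset]
    refine ⟨d, ⟨hd1, by omega⟩, ?_⟩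
    rw [Polynomial.mem_roots (FiniteField.X_pow_card_sub_X_ne_zero F (Nat.one_lt_pow (by omega) hp.one_lt))]
    simp [e]
  have hfib := Finset.card_le_mul_card_image (f := g) R 4 fun s hs => by
    obtain ⟨r₀, hr₀, rfl⟩ := Finset.mem_image.1 hs
    let x₀ := (r₀⁻¹ - r₀) / 2
    have : R.filter (fun r => g r = g r₀) ⊆
        (Polynomial.X ^ 2 + Polynomial.C (2 * x₀) * Polynomial.X - 1).roots.toFinset ∪
        (Polynomial.X ^ 2 + Polynomial.C (-(2 * x₀)) * Polynomial.X - 1).roots.toFinset := by
      intro r hr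
      simp only [R, Finset.mem_filter, Finset.mem_univ, true_and] at hr
      have hne : ∀ c : F, (Polynomial.X ^ 2 + Polynomial.C c * Polynomial.X - 1) ≠ 0 := fun c h0 => by
        have := congrArg (fun P => Polynomial.coeff P 2) h0
        simp [Polynomial.coeff_X_pow, Polynomial.coeff_one] at this
      simp only [Finset.mem_union, Multiset.mem_toFinset, Polynomial.mem_roots (hne _), Polynomial.IsRoot.def,
        Polynomial.eval_sub, Polynomial.eval_add, Polynomial.eval_pow, Polynomial.eval_X, Polynomial.eval_mul,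
        Polynomial.eval_C, Polynomial.eval_one]
      have hr0 := hr.1.1
      rcases eq_or_eq_neg_of_sq_eq_sq _ _ (hr.2 : ((r⁻¹ - r) / 2) ^ 2 = x₀ ^ 2) with e | e
      · left
        rw [show 2 * x₀ = 2 * ((r⁻¹ - r) / 2) by rw [e]]
        field_simp
        ring
      · right
        rw [show -(2 * x₀) = 2 * ((r⁻¹ - r) / 2) by rw [e]; ring]
        field_simp
        ring
    refine (Finset.card_le_card this).trans ((Finset.card_union_le _ _).trans ?_)
    have hdeg : ∀ c : F, (Polynomial.X ^ 2 + Polynomial.C c * Polynomial.X - 1).roots.toFinset.card ≤ 2 := fun c =>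
      (Multiset.toFinset_card_le _).trans ((Polynomial.card_roots' _).trans (by compute_degree))
    exact Nat.add_le_add (hdeg _) (hdeg _)
  have hmain : p ^ n + 4 ≤ 4 * ∑ d ∈ Finset.Icc 1 (n / 2), p ^ d + 5 := by
    have h0 : (0 : F) ∈ bad := by
      simp only [bad, Finset.mem_biUnion, Finset.mem_Icc, Multiset.mem_toFinset]
      refine ⟨1, ⟨le_rfl, by omega⟩, ?_⟩
      rw [Polynomial.mem_roots (FiniteField.X_pow_card_sub_X_ne_zero F (Nat.one_lt_pow one_ne_zero hp.one_lt))]
      simp [hp.ne_zero]
    have := Finset.card_le_card himg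
    rw [Finset.card_erase_of_mem h0] at this
    have := Finset.card_pos.2 ⟨_, h0⟩
    omega
  rcases (by omega : n = 2 ∨ 3 ≤ n) with rfl | h3
  · have hp5 : 5 ≤ p := by
      by_contra h5
      interval_cases p
      · exact h9 ⟨rfl, rfl⟩
      · exact absurd hp (by decide)
    simp at hmain
    nlinarith
  · have hs := sum_pow_le hp3 (n / 2)
    have h4 : p ^ (n / 2 + 1) * 3 ≤ p ^ n := by
      calc p ^ (n / 2 + 1) * 3 ≤ p ^ (n / 2 + 1) * p := Nat.mul_le_mul_left _ hp3
        _ = p ^ (n / 2 + 2) := (pow_succ p _).symm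
        _ ≤ p ^ n := Nat.pow_le_pow_right hp.pos (by omega)
    have h5 : 9 ≤ p ^ (n / 2 + 1) :=
      (Nat.pow_le_pow_left hp3 2).trans (Nat.pow_le_pow_right hp.pos (by omega))
    omega

end CfsgLib.SL2Pres
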