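import Mathlib

/-!
# The commutation lemma of Campbell, Robertson and Williams

If `a`, `b` commute, `u` commutes with `a u a⁻¹` and `b u b⁻¹ = u (a u a⁻¹)`, then `u` commutes with all its
conjugates under `⟨a, b⟩`.
-/

set_option autoImplicit false

namespace CfsgLib.SL2Pres

variable {P : Type*} [Group P] (a b u : P)

/-- The conjugate at a lattice point. -/
def latConj (i j : ℤ) : P := MulAut.conj (a ^ i * b ^ j) u

theorem commute_latConj_shift {a b : P} (hab : Commute a b) (u : P) (i j i' j' : ℤ) :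
    MulAut.conj (a ^ i' * b ^ j') (latConj a b u i j) = latConj a b u (i' + i) (j' + j) := by
  have h : a ^ i' * b ^ j' * (a ^ i * b ^ j) = a ^ (i' + i) * b ^ (j' + j) := by
    rw [zpow_add, zpow_add, mul_assoc, ← mul_assoc (b ^ j'), ← (hab.zpow_zpow i j').eq]
    simp only [mul_assoc]
  simp only [latConj]
  rw [← MulAut.mul_apply, ← map_mul, h]

theorem commute_conj_all {a b u : P} (hab : Commute a b) (hu : Commute u (MulAut.conj a u))
    (hb : MulAut.conj b u = u * MulAut.conj a u) : ∀ i j : ℤ, Commute u (latConj a b u i j) := by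
  let S : ℤ → ℤ → Prop := fun i j => Commute u (latConj a b u i j)
  have h00 : latConj a b u 0 0 = u := by simp [latConj]
  have h10 : latConj a b u 1 0 = MulAut.conj a u := by simp [latConj]
  have h01 : latConj a b u 0 1 = MulAut.conj b u := by simp [latConj]
  have hshift : ∀ {x y : P} (i j : ℤ), Commute x y →
      Commute (MulAut.conj (a ^ i * b ^ j) x) (MulAut.conj (a ^ i * b ^ j) y) := fun i j h => h.map (MulAut.conj _)
  have hu0 : ∀ i j : ℤ, MulAut.conj (a ^ i * b ^ j) u = latConj a b u i j := fun i j => rfl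
  have hsymm : ∀ i j, S i j → S (-i) (-j) := fun i j h => by
    have h' := hshift (-i) (-j) h
    rw [commute_latConj_shift hab, hu0, neg_add_cancel, neg_add_cancel, h00] at h'
    exact h'.symm
  -- the product `u (a u a⁻¹)` is seen from the upper row
  have hup : ∀ i j, S i j → Commute (u * MulAut.conj a u) (latConj a b u i (j + 1)) := fun i j h => by
    have h' := hshift 0 1 h
    rw [commute_latConj_shift hab, hu0, h01, hb, zero_add, add_comm 1 j] at h'
    exact h'
  have hdown : ∀ i j, Commute (u * MulAut.conj a u) (latConj a b u i (j + 1)) → S i j := fun i j h => by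
    rw [← hb, ← h01] at h
    have h' := hshift 0 (-1) h
    rwa [commute_latConj_shift hab, commute_latConj_shift hab, zero_add, zero_add, neg_add_cancel,
      show -1 + (j + 1) = j by ring, h00] at h'
  have hleft : ∀ i j, Commute (MulAut.conj a u) (latConj a b u i j) → S (i - 1) j := fun i j h => by
    rw [← h10] at h
    have h' := hshift (-1) 0 h
    rwa [commute_latConj_shift hab, commute_latConj_shift hab, zero_add, zero_add, neg_add_cancel,
      show -1 + i = i - 1 by ring, h00] at h'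
  have hright : ∀ i j, S (i - 1) j → Commute (MulAut.conj a u) (latConj a b u i j) := fun i j h => by
    have h' := hshift 1 0 h
    rwa [commute_latConj_shift hab, hu0, h10, zero_add, show 1 + (i - 1) = i by ring] at h'
  have hA : ∀ i j, S i j → S i (j + 1) → S (i - 1) (j + 1) := fun i j h1 h2 => by
    refine hleft _ _ ?_
    have := (h2 : Commute u _).inv_left.mul_left (hup i j h1)
    rwa [inv_mul_cancel_left] at this
  have hB : ∀ i j, S i j → S (i - 1) (j + 1) → S i (j + 1) := fun i j h1 h2 => by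
    have := (hup i j h1).mul_left (hright _ _ h2).inv_left
    rwa [mul_inv_cancel_right] at this
  have hC : ∀ i j, S i (j + 1) → S (i - 1) (j + 1) → S i j := fun i j h1 h2 =>
    hdown i j ((h1 : Commute u _).mul_left (hright _ _ h2))
  have key : ∀ r : ℕ, ∀ i j : ℤ, |i| ≤ r + 1 → |j| ≤ r + 1 → |i + j| ≤ r + 1 → S i j := by
    intro r
    induction r with
    | zero =>
      have s00 : S 0 0 := by show Commute u _; rw [h00]
      have s10 : S 1 0 := by show Commute u _; rw [h10]; exact hu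
      have s01 : S 0 1 := by
        show Commute u _
        rw [h01, hb]
        exact (Commute.refl u).mul_right hu
      have sm1 : S (-1) 1 := hA 0 0 s00 s01
      intro i j hi hj hij
      rw [abs_le] at hi hj hij
      push_cast at hi hj hij
      obtain ⟨rfl, rfl⟩ | ⟨rfl, rfl⟩ | ⟨rfl, rfl⟩ | ⟨rfl, rfl⟩ | ⟨rfl, rfl⟩ | ⟨rfl, rfl⟩ | ⟨rfl, rfl⟩ :
          (i = 0 ∧ j = 0) ∨ (i = 1 ∧ j = 0) ∨ (i = -1 ∧ j = 0) ∨ (i = 0 ∧ j = 1) ∨ (i = 0 ∧ j = -1) ∨
          (i = -1 ∧ j = 1) ∨ (i = 1 ∧ j = -1) := by omega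
      · exact s00
      · exact s10
      · exact hsymm _ _ s10
      · exact s01
      · exact hsymm _ _ s01
      · exact sm1
      · exact hsymm _ _ sm1
    | succ r ih =>
      have ih' : ∀ i j : ℤ, i ≤ r + 1 → -(r + 1 : ℤ) ≤ i → j ≤ r + 1 → -(r + 1 : ℤ) ≤ j → i + j ≤ r + 1 →
          -(r + 1 : ℤ) ≤ i + j → S i j := fun i j a b c d e f =>
        ih i j (abs_le.2 ⟨b, a⟩) (abs_le.2 ⟨d, c⟩) (abs_le.2 ⟨f, e⟩)
      -- three sides of the new ring
      have side1 : ∀ i : ℤ, 1 ≤ i → i ≤ r + 1 → S i (r + 2 - i) := fun i h1 h2 => by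
        have := hB i (r + 1 - i) (ih' _ _ (by omega) (by omega) (by omega) (by omega) (by omega) (by omega))
          (ih' _ _ (by omega) (by omega) (by omega) (by omega) (by omega) (by omega))
        rwa [show (r : ℤ) + 1 - i + 1 = r + 2 - i by ring] at this
      have side2 : ∀ j : ℤ, 1 ≤ j → j ≤ r + 1 → S (-(r + 2)) j := fun j h1 h2 => by
        have := hA (-(r + 1)) (j - 1) (ih' _ _ (by omega) (by omega) (by omega) (by omega) (by omega) (by omega))
          (ih' _ _ (by omega) (by omega) (by omega) (by omega) (by omega) (by omega))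
        rwa [show -((r : ℤ) + 1) - 1 = -(r + 2) by ring, show j - 1 + 1 = j by ring] at this
      have side3 : ∀ i : ℤ, 1 ≤ i → i ≤ r + 1 → S i (-(r + 2)) := fun i h1 h2 =>
        hC i (-(r + 2)) (ih' _ _ (by omega) (by omega) (by omega) (by omega) (by omega) (by omega))
          (ih' _ _ (by omega) (by omega) (by omega) (by omega) (by omega) (by omega))
      have side1' : ∀ i : ℤ, -(r + 1 : ℤ) ≤ i → i ≤ -1 → S i (-(r + 2) - i) := fun i h1 h2 => by
        have := hsymm _ _ (side1 (-i) (by omega) (by omega))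
        rwa [neg_neg, show -((r : ℤ) + 2 - -i) = -(r + 2) - i by ring] at this
      have side2' : ∀ j : ℤ, -(r + 1 : ℤ) ≤ j → j ≤ -1 → S (r + 2) j := fun j h1 h2 => by
        have := hsymm _ _ (side2 (-j) (by omega) (by omega))
        rwa [neg_neg, neg_neg] at this
      have side3' : ∀ i : ℤ, -(r + 1 : ℤ) ≤ i → i ≤ -1 → S i (r + 2) := fun i h1 h2 => by
        have := hsymm _ _ (side3 (-i) (by omega) (by omega))
        rwa [neg_neg, neg_neg] at this
      have c1 : S (r + 2) 0 := by
        have := hB (r + 2) (-1) (side2' _ (by omega) (by omega))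
          (by
            rw [neg_add_cancel, show (r : ℤ) + 2 - 1 = r + 1 by ring]
            exact ih' _ _ (by omega) (by omega) (by omega) (by omega) (by omega) (by omega))
        rwa [neg_add_cancel] at this
      have c2 : S 0 (r + 2) := by
        have := hB 0 (r + 1) (ih' _ _ (by omega) (by omega) (by omega) (by omega) (by omega) (by omega))
          (by
            rw [show (0 : ℤ) - 1 = -1 by ring, show (r : ℤ) + 1 + 1 = r + 2 by ring]
            exact side3' _ (by omega) (by omega))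
        rwa [show (r : ℤ) + 1 + 1 = r + 2 by ring] at this
      have c3 : S (-(r + 2)) (r + 2) := by
        have := hA (-(r + 1)) (r + 1) (ih' _ _ (by omega) (by omega) (by omega) (by omega) (by omega) (by omega))
          (by
            rw [show (r : ℤ) + 1 + 1 = r + 2 by ring]
            exact side3' _ (by omega) (by omega))
        rwa [show -((r : ℤ) + 1) - 1 = -(r + 2) by ring, show (r : ℤ) + 1 + 1 = r + 2 by ring] at this
      intro i j hi hj hij
      rw [abs_le] at hi hj hij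
      push_cast at hi hj hij
      by_cases hin : (i ≤ r + 1 ∧ -(r + 1 : ℤ) ≤ i) ∧ (j ≤ r + 1 ∧ -(r + 1 : ℤ) ≤ j) ∧
          (i + j ≤ r + 1 ∧ -(r + 1 : ℤ) ≤ i + j)
      · exact ih' _ _ hin.1.1 hin.1.2 hin.2.1.1 hin.2.1.2 hin.2.2.1 hin.2.2.2
      rcases (by omega : (i + j = r + 2 ∧ 1 ≤ i ∧ i ≤ r + 1) ∨ (i + j = -(r + 2) ∧ -(r + 1 : ℤ) ≤ i ∧ i ≤ -1) ∨
          (i = -(r + 2) ∧ 1 ≤ j ∧ j ≤ r + 1) ∨ (i = r + 2 ∧ -(r + 1 : ℤ) ≤ j ∧ j ≤ -1) ∨
          (j = -(r + 2) ∧ 1 ≤ i ∧ i ≤ r + 1) ∨ (j = r + 2 ∧ -(r + 1 : ℤ) ≤ i ∧ i ≤ -1) ∨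
          (i = r + 2 ∧ j = 0) ∨ (i = -(r + 2) ∧ j = 0) ∨ (i = 0 ∧ j = r + 2) ∨ (i = 0 ∧ j = -(r + 2)) ∨
          (i = -(r + 2) ∧ j = r + 2) ∨ (i = r + 2 ∧ j = -(r + 2))) with
        ⟨h, h1, h2⟩ | ⟨h, h1, h2⟩ | ⟨rfl, h1, h2⟩ | ⟨rfl, h1, h2⟩ | ⟨rfl, h1, h2⟩ | ⟨rfl, h1, h2⟩ |
        ⟨rfl, rfl⟩ | ⟨rfl, rfl⟩ | ⟨rfl, rfl⟩ | ⟨rfl, rfl⟩ | ⟨rfl, rfl⟩ | ⟨rfl, rfl⟩
      · rw [show j = r + 2 - i by omega]; exact side1 i h1 h2
      · rw [show j = -(r + 2) - i by omega]; exact side1' i h1 h2
      · exact side2 j h1 h2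
      · exact side2' j h1 h2
      · exact side3 i h1 h2
      · exact side3' i h1 h2
      · exact c1
      · simpa using hsymm _ _ c1
      · exact c2
      · simpa using hsymm _ _ c2
      · exact c3
      · have := hsymm _ _ c3
        rwa [neg_neg] at this
  intro i j
  refine key (i.natAbs + j.natAbs) i j ?_ ?_ ?_ <;>
    · rw [abs_le]; push_cast
      have h1 := abs_nonneg i; have h2 := abs_nonneg j
      rcases abs_cases i with ⟨e, _⟩ | ⟨e, _⟩ <;> rcases abs_cases j with ⟨f, _⟩ | ⟨f, _⟩ <;>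
        constructor <;> omega

end CfsgLib.SL2Pres
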