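import Mathlib

/-!
# The order of a group with the relations of `SL(2, q)`

The elements `φ x h ^ i` and `φ x h ^ i t φ y` form the whole group.
-/

set_option autoImplicit false

open Multiplicative
open scoped Pointwise

namespace CfsgLib.SL2Pres

variable {F : Type*} [Field F] {P : Type*} [Group P]

/-- The word `φ x · t φ(1/x) t⁻¹ · φ x`. -/
def steinWord (φ : Multiplicative F →* P) (t : P) (x : F) : P :=
  φ (ofAdd x) * (t * φ (ofAdd x⁻¹) * t⁻¹) * φ (ofAdd x)

/-- The relations that determine the square of the Weyl element. -/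
structure PreAxioms (w : F) (φ : Multiplicative F →* P) (h t : P) : Prop where
  conj_h : ∀ x : F, h * φ (ofAdd x) * h⁻¹ = φ (ofAdd (w ^ 2 * x))
  t_h : t * h * t⁻¹ = h⁻¹
  stein_one : steinWord φ t 1 = t
  stein_w : steinWord φ t w = h * t

/-- The relations of `SL(2, q)` for a homomorphism on the field. -/
structure Axioms (w : F) (φ : Multiplicative F →* P) (h t : P) : Prop where
  conj_h : ∀ x : F, h * φ (ofAdd x) * h⁻¹ = φ (ofAdd (w ^ 2 * x))
  t_h : t * h * t⁻¹ = h⁻¹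
  t_two : ∀ x : F, Commute (t ^ 2) (φ (ofAdd x))
  stein_one : steinWord φ t 1 = t
  stein_w : steinWord φ t w = h * t
  gen : Subgroup.closure (Set.range φ ∪ {h, t}) = ⊤

/-- A finite set closed under right multiplication by an element is closed under its inverse. -/
theorem mul_inv_mem_of_finite {S : Set P} (hS : S.Finite) {g : P} (h : ∀ s ∈ S, s * g ∈ S) :
    ∀ s ∈ S, s * g⁻¹ ∈ S := by
  intro s hs
  have hsub : (fun x => x * g) '' S ⊆ S := by rintro _ ⟨x, hx, rfl⟩; exact h x hx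
  have heq : (fun x => x * g) '' S = S := Set.eq_of_subset_of_ncard_le hsub
    (by rw [Set.ncard_image_of_injective S (mul_left_injective g)]) hS
  rw [← heq] at hs
  obtain ⟨x, hx, rfl⟩ := hs
  simpa using hx

namespace PreAxioms

variable {w : F} {φ : Multiplicative F →* P} {h t : P} (A : PreAxioms w φ h t)
include A

theorem conj_hpow (k : ℕ) (x : F) : h ^ k * φ (ofAdd x) * (h ^ k)⁻¹ = φ (ofAdd (w ^ (2 * k) * x)) := by
  induction k with
  | zero => simp
  | succ k ih =>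
    have e : h ^ (k + 1) * φ (ofAdd x) * (h ^ (k + 1))⁻¹ = h * (h ^ k * φ (ofAdd x) * (h ^ k)⁻¹) * h⁻¹ := by
      rw [pow_succ', mul_inv_rev]; simp only [mul_assoc]
    rw [e, ih, A.conj_h, ← mul_assoc, ← pow_add]
    congr 3
    ring

theorem t_hpow (k : ℕ) : t * h ^ k * t⁻¹ = (h ^ k)⁻¹ := by
  rw [← conj_pow, A.t_h, inv_pow]

theorem stein_shift (hw : w ≠ 0) (k : ℕ) {x : F} {d : P} (hd : steinWord φ t x = d * t) (hdh : Commute (h ^ k) d) :
    steinWord φ t (w ^ (2 * k) * x) = d * h ^ (2 * k) * t := by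
  have e1 : h ^ k * t = t * (h ^ k)⁻¹ := by
    have := A.t_hpow k
    calc h ^ k * t = (t * h ^ k * t⁻¹)⁻¹ * t := by rw [this, inv_inv]
      _ = t * (h ^ k)⁻¹ := by simp only [mul_inv_rev, inv_inv, mul_assoc, inv_mul_cancel, mul_one]
  have e2 : h ^ k * (t * φ (ofAdd x⁻¹) * t⁻¹) * (h ^ k)⁻¹ = t * φ (ofAdd (w ^ (2 * k) * x)⁻¹) * t⁻¹ := by
    have e3 : (h ^ k)⁻¹ * φ (ofAdd x⁻¹) * h ^ k = φ (ofAdd (w ^ (2 * k) * x)⁻¹) := by
      have e4 := A.conj_hpow k (w ^ (2 * k) * x)⁻¹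
      rw [show w ^ (2 * k) * (w ^ (2 * k) * x)⁻¹ = x⁻¹ by
        rw [mul_inv, ← mul_assoc, mul_inv_cancel₀ (pow_ne_zero _ hw), one_mul]] at e4
      rw [← e4]
      simp only [mul_assoc, inv_mul_cancel, mul_one, inv_mul_cancel_left]
    have e1' : t⁻¹ * (h ^ k)⁻¹ = h ^ k * t⁻¹ := by
      have := congrArg (·⁻¹) e1
      simpa only [mul_inv_rev, inv_inv] using this
    calc h ^ k * (t * φ (ofAdd x⁻¹) * t⁻¹) * (h ^ k)⁻¹
        = (h ^ k * t) * φ (ofAdd x⁻¹) * (t⁻¹ * (h ^ k)⁻¹) := by simp only [mul_assoc]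
      _ = t * ((h ^ k)⁻¹ * φ (ofAdd x⁻¹) * h ^ k) * t⁻¹ := by rw [e1, e1']; simp only [mul_assoc]
      _ = _ := by rw [e3]
  calc steinWord φ t (w ^ (2 * k) * x)
      = h ^ k * steinWord φ t x * (h ^ k)⁻¹ := by
        simp only [steinWord]
        rw [← e2, ← A.conj_hpow k x]
        simp only [mul_assoc, inv_mul_cancel_left]
    _ = d * (h ^ k * t * (h ^ k)⁻¹) := by rw [hd, ← mul_assoc, hdh.eq]; simp only [mul_assoc]
    _ = d * h ^ (2 * k) * t := by
        have e5 : t * (h ^ k)⁻¹ = h ^ k * t := e1.symm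
        rw [mul_assoc (h ^ k) t, e5, ← mul_assoc (h ^ k), ← pow_add, ← two_mul, ← mul_assoc]

theorem stein_pow (hw : w ≠ 0) (e : ℕ) : steinWord φ t (w ^ e) = h ^ e * t := by
  rcases Nat.even_or_odd' e with ⟨k, rfl | rfl⟩
  · have := A.stein_shift hw k (x := 1) (d := 1) (by rw [A.stein_one, one_mul]) (Commute.one_right _)
    rwa [mul_one, one_mul] at this
  · have := A.stein_shift hw k (x := w) (d := h) A.stein_w (Commute.pow_self h k)
    rwa [← pow_succ, ← pow_succ'] at this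

theorem t_sq (hw : w ≠ 0) {e : ℕ} (he : w ^ e = -1) : t * t = (h ^ e)⁻¹ := by
  have h1 : steinWord φ t (-1) = (steinWord φ t 1)⁻¹ := by
    simp only [steinWord, inv_neg, inv_one, ofAdd_neg, map_inv]
    simp only [mul_inv_rev, inv_inv, mul_assoc]
  rw [A.stein_one, ← he, A.stein_pow hw e] at h1
  have h2 := congrArg (fun z => (h ^ e)⁻¹ * z * t) h1
  simpa [mul_assoc] using h2

theorem t_two (hw : w ≠ 0) {e : ℕ} (he : w ^ e = -1) (x : F) : Commute (t ^ 2) (φ (ofAdd x)) := by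
  have h1 := A.conj_hpow e x
  rw [mul_comm 2 e, pow_mul, he, neg_one_sq, one_mul] at h1
  have hc : Commute (h ^ e) (φ (ofAdd x)) := mul_inv_eq_iff_eq_mul.1 h1
  rw [pow_two, A.t_sq hw he]
  exact hc.inv_left

theorem h_pow_eq_one (hw : w ≠ 0) {N : ℕ} (hN : w ^ N = 1) : h ^ N = 1 := by
  have := A.stein_pow hw N
  rw [hN, A.stein_one] at this
  exact mul_eq_right.1 this.symm

end PreAxioms

namespace Axioms

variable {w : F} {φ : Multiplicative F →* P} {h t : P} (A : Axioms w φ h t)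
include A

theorem pre : PreAxioms w φ h t := ⟨A.conj_h, A.t_h, A.stein_one, A.stein_w⟩

theorem conj_hpow (k : ℕ) (x : F) : h ^ k * φ (ofAdd x) * (h ^ k)⁻¹ = φ (ofAdd (w ^ (2 * k) * x)) :=
  A.pre.conj_hpow k x

theorem stein_pow (hw : w ≠ 0) (e : ℕ) : steinWord φ t (w ^ e) = h ^ e * t := A.pre.stein_pow hw e

theorem t_sq (hw : w ≠ 0) {e : ℕ} (he : w ^ e = -1) : t * t = (h ^ e)⁻¹ := A.pre.t_sq hw he

theorem h_pow_eq_one (hw : w ≠ 0) {N : ℕ} (hN : w ^ N = 1) : h ^ N = 1 := A.pre.h_pow_eq_one hw hN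

/-- The group is finite, of order at most `N q (q + 1)`. -/
theorem card_le [Finite F] (hw : w ≠ 0) (hgen : ∀ x : F, x ≠ 0 → ∃ e : ℕ, w ^ e = x) {N : ℕ}
    (hN0 : 0 < N) (hN : h ^ N = 1) :
    Finite P ∧ Nat.card P ≤ N * Nat.card F * (Nat.card F + 1) := by
  classical
  cases nonempty_fintype F
  obtain ⟨e₀, he₀⟩ := hgen (-1) (neg_ne_zero.2 one_ne_zero)
  have htt := A.t_sq hw he₀
  have hmod : ∀ i, h ^ i = h ^ (i % N) := fun i => by
    conv_lhs => rw [← Nat.mod_add_div i N, pow_add, pow_mul, hN, one_pow, mul_one]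
  have hinv : ∀ i, (h ^ i)⁻¹ = h ^ (i * (N - 1)) := fun i => by
    refine inv_eq_of_mul_eq_one_right ?_
    rw [← pow_add, show i + i * (N - 1) = N * i by
      obtain ⟨r, rfl⟩ : ∃ r, N = r + 1 := ⟨N - 1, by omega⟩
      rw [Nat.add_sub_cancel]; ring, pow_mul, hN, one_pow]
  let f : (F × Fin N) ⊕ (F × Fin N × F) → P := Sum.elim
    (fun z => φ (ofAdd z.1) * h ^ (z.2 : ℕ)) (fun z => φ (ofAdd z.1) * h ^ (z.2.1 : ℕ) * t * φ (ofAdd z.2.2))
  set S := Set.range f with hS
  have hA : ∀ x i, φ (ofAdd x) * h ^ i ∈ S := fun x i =>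
    ⟨.inl (x, ⟨i % N, Nat.mod_lt _ hN0⟩), by show φ (ofAdd x) * h ^ (i % N) = _; rw [← hmod]⟩
  have hB : ∀ x i y, φ (ofAdd x) * h ^ i * t * φ (ofAdd y) ∈ S := fun x i y =>
    ⟨.inr (x, ⟨i % N, Nat.mod_lt _ hN0⟩, y), by show φ (ofAdd x) * h ^ (i % N) * t * φ (ofAdd y) = _; rw [← hmod]⟩
  have hph : ∀ i z, h ^ i * φ (ofAdd z) = φ (ofAdd (w ^ (2 * i) * z)) * h ^ i := fun i z => by
    rw [← A.conj_hpow i z, inv_mul_cancel_right]
  have hmul : ∀ g ∈ Set.range φ ∪ {h, t}, ∀ s ∈ S, s * g ∈ S := by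
    rintro g hg _ ⟨⟨x, i⟩ | ⟨x, i, y⟩, rfl⟩ <;> simp only [f, Sum.elim_inl, Sum.elim_inr]
    · rcases hg with ⟨z, rfl⟩ | hg | hg
      · rw [← ofAdd_toAdd z, mul_assoc, hph, ← mul_assoc, ← map_mul, ← ofAdd_add]
        exact hA _ _
      · rw [hg, mul_assoc, ← pow_succ]
        exact hA _ _
      · rw [hg]
        have := hB x i 0
        rwa [ofAdd_zero, map_one, mul_one] at this
    · rcases hg with ⟨z, rfl⟩ | hg | hg
      · rw [← ofAdd_toAdd z, mul_assoc, ← map_mul, ← ofAdd_add]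
        exact hB _ _ _
      · rw [hg]
        have e1 : φ (ofAdd y) * h = h * φ (ofAdd (y / w ^ 2)) := by
          have := A.conj_h (y / w ^ 2)
          rw [mul_div_cancel₀ _ (pow_ne_zero 2 hw)] at this
          rw [← this, inv_mul_cancel_right]
        have e2 : t * h = h⁻¹ * t := by rw [← A.t_h, inv_mul_cancel_right]
        have e3 : h⁻¹ = h ^ (N - 1) := by simpa using hinv 1
        rw [mul_assoc, e1, ← mul_assoc, mul_assoc _ t h, e2, e3, ← mul_assoc, mul_assoc (φ _) (h ^ (i : ℕ)),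
          ← pow_add]
        exact hB _ _ _
      · rw [hg]
        by_cases hy : y = 0
        · rw [hy, ofAdd_zero, map_one, mul_one, mul_assoc _ t t, htt, hinv, mul_assoc, ← pow_add]
          exact hA _ _
        · obtain ⟨e, he⟩ := hgen y⁻¹ (inv_ne_zero hy)
          have e1 := A.stein_pow hw e
          rw [he, steinWord, inv_inv] at e1
          have e2 : t * φ (ofAdd y) * t⁻¹ = φ (ofAdd (-y⁻¹)) * (h ^ e * t) * φ (ofAdd (-y⁻¹)) := by
            rw [← e1, ofAdd_neg, map_inv]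
            simp only [mul_assoc, inv_mul_cancel_left, mul_inv_cancel, mul_one]
          have e3 : t * φ (ofAdd y) * t = φ (ofAdd (-y⁻¹)) * h ^ (e + e₀ * (N - 1)) * t * φ (ofAdd (-y⁻¹)) := by
            have hc : φ (ofAdd (-y⁻¹)) * (t * t) = t * t * φ (ofAdd (-y⁻¹)) := by
              rw [← pow_two]; exact (A.t_two _).eq.symm
            calc t * φ (ofAdd y) * t = t * φ (ofAdd y) * t⁻¹ * (t * t) := by
                  simp only [mul_assoc, inv_mul_cancel_left]
              _ = φ (ofAdd (-y⁻¹)) * h ^ e * (t * (t * t)) * φ (ofAdd (-y⁻¹)) := by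
                  rw [e2, mul_assoc _ (φ _) (t * t), hc]; simp only [mul_assoc]
              _ = _ := by rw [← mul_assoc t t t, htt, hinv, pow_add]; simp only [mul_assoc]
          rw [mul_assoc _ t (φ _), mul_assoc _ (t * _) t, e3, ← mul_assoc, ← mul_assoc, ← mul_assoc,
            mul_assoc (φ (ofAdd x)) (h ^ (i : ℕ)), hph, ← mul_assoc, ← map_mul, ← ofAdd_add,
            mul_assoc (φ _) (h ^ (i : ℕ)), ← pow_add]
          exact hB _ _ _
  have hfin : S.Finite := Set.finite_range f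
  have htop : ∀ g : P, g ∈ S := by
    intro g
    have hg : g ∈ Subgroup.closure (Set.range φ ∪ {h, t}) := A.gen ▸ Subgroup.mem_top g
    induction hg using Subgroup.closure_induction_right with
    | one => have := hA 0 0; simpa using this
    | mul_right x _ y hy ih => exact hmul y hy x ih
    | mul_inv_cancel x _ y hy ih => exact mul_inv_mem_of_finite hfin (hmul y hy) x ih
  have hsurj : Function.Surjective f := htop
  refine ⟨Finite.of_surjective f hsurj, (Nat.card_le_card_of_surjective f hsurj).trans (le_of_eq ?_)⟩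
  rw [Nat.card_sum, Nat.card_prod, Nat.card_prod, Nat.card_prod, Nat.card_fin]
  ring

end Axioms

end CfsgLib.SL2Pres
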