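import Cfsg.Agent.Lib.KnownB.Pres.SL2Rels
import Cfsg.Agent.Lib.KnownB.Pres.FieldChoice
import Cfsg.Agent.Lib.Classical.SLOrders

/-!
# Short presentations of `SL(2, q)` and `PSL(2, q)`
-/

set_option autoImplicit false

open Multiplicative Matrix CfsgLib.Classical
open scoped MatrixGroups

namespace CfsgLib.SL2Pres

abbrev UF : FreeGroup (Fin 3) := FreeGroup.of 0
abbrev HF : FreeGroup (Fin 3) := FreeGroup.of 1
abbrev TF : FreeGroup (Fin 3) := FreeGroup.of 2

/-- An equation as a relator. -/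
def rl (x y : FreeGroup (Fin 3)) : FreeGroup (Fin 3) := x * y⁻¹

theorem map_rl {G : Type*} [Group G] (f : FreeGroup (Fin 3) →* G) {x y : FreeGroup (Fin 3)} :
    f (rl x y) = 1 ↔ f x = f y := by
  rw [rl, map_mul, map_inv, mul_inv_eq_one]

theorem lift_three {G : Type*} [Group G] (f : FreeGroup (Fin 3) →* G) :
    Set.range (fun i => f (FreeGroup.of i)) = {f UF, f HF, f TF} := by
  ext z
  simp only [Set.mem_range, Set.mem_insert_iff, Set.mem_singleton_iff]
  constructor
  · rintro ⟨i, rfl⟩; fin_cases i <;> simp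
  · rintro (rfl | rfl | rfl) <;> exact ⟨_, rfl⟩

/-- A finite group receiving the presented group onto, and of at least its order, is presented,
by an isomorphism with the given values on the generators. -/
theorem iso_of_card' {G : Type*} [Group G] [Finite G] (rels : Finset (FreeGroup (Fin 3))) (g : Fin 3 → G)
    (hrel : ∀ r ∈ rels, FreeGroup.lift g r = 1) (hgen : Subgroup.closure {g 0, g 1, g 2} = ⊤)
    (hP : Finite (PresentedGroup (↑rels : Set (FreeGroup (Fin 3)))) ∧
      Nat.card (PresentedGroup (↑rels : Set (FreeGroup (Fin 3)))) ≤ Nat.card G) :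
    ∃ e : PresentedGroup (↑rels : Set (FreeGroup (Fin 3))) ≃* G, ∀ k, e (PresentedGroup.of k) = g k := by
  haveI := hP.1
  let ψ := PresentedGroup.toGroup (rels := (↑rels : Set (FreeGroup (Fin 3)))) (f := g) (fun r hr => hrel r hr)
  have hsurj : Function.Surjective ψ := by
    rw [← MonoidHom.range_eq_top, eq_top_iff, ← hgen, Subgroup.closure_le]
    rintro z (rfl | rfl | rfl)
    · exact ⟨PresentedGroup.of 0, PresentedGroup.toGroup.of _⟩
    · exact ⟨PresentedGroup.of 1, PresentedGroup.toGroup.of _⟩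
    · exact ⟨PresentedGroup.of 2, PresentedGroup.toGroup.of _⟩
  exact ⟨MulEquiv.ofBijective ψ (hsurj.bijective_of_nat_card_le hP.2), fun k => PresentedGroup.toGroup.of (fun r hr => hrel r hr)⟩

/-- A finite group receiving the presented group onto, and of at least its order, is presented. -/
theorem iso_of_card {G : Type*} [Group G] [Finite G] (rels : Finset (FreeGroup (Fin 3))) (g : Fin 3 → G)
    (hrel : ∀ r ∈ rels, FreeGroup.lift g r = 1) (hgen : Subgroup.closure {g 0, g 1, g 2} = ⊤)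
    (hP : Finite (PresentedGroup (↑rels : Set (FreeGroup (Fin 3)))) ∧
      Nat.card (PresentedGroup (↑rels : Set (FreeGroup (Fin 3)))) ≤ Nat.card G) :
    Nonempty (PresentedGroup (↑rels : Set (FreeGroup (Fin 3))) ≃* G) :=
  ⟨(iso_of_card' rels g hrel hgen hP).choose⟩

variable {p : ℕ} [Fact p.Prime] {F : Type*} [Field F] [Fintype F] [Algebra (ZMod p) F]
  (pb : PowerBasis (ZMod p) F) (w : F) (i : ℕ)

/-- The word of a field element. -/
noncomputable def W (x : F) : FreeGroup (Fin 3) := wordOn pb UF (HF ^ i) x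

omit [Fintype F] in
theorem map_W {G : Type*} [Group G] (f : FreeGroup (Fin 3) →* G) (x : F) :
    f (W pb i x) = wordOn pb (f UF) (f HF ^ i) x := by
  rw [W, map_wordOn, map_pow]

/-- Relations used in odd characteristic, except the central one and the commutation ones. -/
noncomputable def oddCommon : List (FreeGroup (Fin 3)) :=
  [rl (UF ^ p) 1,
   rl ((HF ^ i) ^ pb.dim * UF * ((HF ^ i) ^ pb.dim)⁻¹) (W pb i (pb.gen ^ pb.dim)),
   rl (HF * UF * HF⁻¹) (W pb i (w ^ 2)),
   rl (TF * HF * TF⁻¹) HF⁻¹,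
   rl (UF * (TF * UF * TF⁻¹) * UF) TF,
   rl (W pb i w * (TF * W pb i w⁻¹ * TF⁻¹) * W pb i w) (HF * TF)]

/-- Commutation relations: enough to make the conjugates of `u` used commute. -/
def CommForces (E : List (FreeGroup (Fin 3))) : Prop :=
  ∀ (P : Type) [Group P] (f : FreeGroup (Fin 3) →* P), (∀ r ∈ E, f r = 1) →
    ∀ k l : Fin pb.dim, k ≠ l → Commute ((f HF ^ i) ^ (k : ℕ) * f UF * ((f HF ^ i) ^ (k : ℕ))⁻¹)
      ((f HF ^ i) ^ (l : ℕ) * f UF * ((f HF ^ i) ^ (l : ℕ))⁻¹)

variable {pb w i}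

theorem rels_of_oddCommon {P : Type} [Group P] (f : FreeGroup (Fin 3) →* P) {E : List (FreeGroup (Fin 3))}
    (hE : CommForces pb i E) (h : ∀ r ∈ oddCommon pb w i ++ E, f r = 1) (htz : Commute (f TF ^ 2) (f UF))
    (hgen : Subgroup.closure {f UF, f HF, f TF} = ⊤) : Rels pb w i (f UF) (f HF) (f TF) := by
  simp only [oddCommon, List.cons_append, List.nil_append, List.forall_mem_cons, map_rl, map_pow, map_mul,
    map_inv, map_one, map_W] at h
  obtain ⟨h1, h2, h3, h4, h5, h6, hr⟩ := h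
  exact ⟨h1, hE P f hr, h2, h3, htz, h4, h5, h6, hgen⟩

theorem oddCommon_hold {G : Type*} [Group G] (g : Fin 3 → G) (R : Rels pb w i (g 0) (g 1) (g 2)) :
    ∀ r ∈ oddCommon pb w i, FreeGroup.lift g r = 1 := by
  simp only [oddCommon, List.forall_mem_cons, List.not_mem_nil, IsEmpty.forall_iff, implies_true, and_true,
    map_rl, map_pow, map_mul, map_inv, map_one, map_W, FreeGroup.lift_apply_of]
  exact ⟨R.u_pow, R.top, R.hu, R.th, R.s1, R.sw⟩

/-- Relations used in characteristic two. -/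
noncomputable def evenRels {K : Type*} [Field K] [Algebra (ZMod 2) K] (pb : PowerBasis (ZMod 2) K) (w : K) : List (FreeGroup (Fin 3)) :=
  [rl (TF * TF) 1, rl (TF * UF * TF) (UF * TF * UF),
   rl (W pb 1 w * (TF * W pb 1 w⁻¹ * TF⁻¹) * W pb 1 w) (HF * TF),
   rl ((HF ^ 1) ^ pb.dim * UF * ((HF ^ 1) ^ pb.dim)⁻¹) (W pb 1 (pb.gen ^ pb.dim))]

theorem rels_of_evenRels {K : Type*} [Field K] [Algebra (ZMod 2) K] {pb : PowerBasis (ZMod 2) K} {w : K} (hwgen : pb.gen = w ^ 2) {P : Type} [Group P]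
    (f : FreeGroup (Fin 3) →* P) {E : List (FreeGroup (Fin 3))}
    (hE : f UF ^ 2 = 1 → (∀ r ∈ E, f r = 1) → ∀ k l : Fin pb.dim, k ≠ l →
      Commute ((f HF ^ 1) ^ (k : ℕ) * f UF * ((f HF ^ 1) ^ (k : ℕ))⁻¹)
        ((f HF ^ 1) ^ (l : ℕ) * f UF * ((f HF ^ 1) ^ (l : ℕ))⁻¹))
    (h : ∀ r ∈ evenRels pb w ++ E, f r = 1)
    (hgen : Subgroup.closure {f UF, f HF, f TF} = ⊤) : Rels pb w 1 (f UF) (f HF) (f TF) := by
  simp only [evenRels, List.cons_append, List.nil_append, List.forall_mem_cons, map_rl, map_pow, map_mul,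
    map_inv, map_one, map_W] at h
  obtain ⟨ht, hbr, hsw, htop, hr⟩ := h
  set u := f UF
  set t := f TF
  set hh := f HF
  have htinv : t⁻¹ = t := inv_eq_of_mul_eq_one_right ht
  have hu : u ^ 2 = 1 := by
    have e : u = t * u * t * (t * u)⁻¹ := by
      calc u = u * t * u * (t * u)⁻¹ := by simp only [_root_.mul_inv_rev, mul_assoc, mul_inv_cancel_left, mul_inv_cancel, mul_one]
        _ = _ := by rw [← hbr]
    rw [e, show t * u * t * (t * u)⁻¹ = (t * u) * t * (t * u)⁻¹ from rfl, conj_pow, pow_two t, ht, mul_one,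
      mul_inv_cancel]
  obtain ⟨φ, h1, ha, hW⟩ := exists_hom hu (hE hu hr) htop
  have hp2 : ∀ x : K, φ (ofAdd x) * φ (ofAdd x) = 1 := fun x => by
    haveI : CharP K 2 := (Algebra.charP_iff (ZMod 2) K 2).1 (ZMod.charP 2)
    rw [← map_mul, ← ofAdd_add, CharTwo.add_self_eq_zero, ofAdd_zero, map_one]
  refine ⟨hu, hE hu hr, htop, ?_, ?_, ?_, ?_, hsw, hgen⟩
  · have e := ha 1
    rw [mul_one, hwgen, h1, pow_one, hW] at e
    simpa using e
  · rw [pow_two, ht]; exact Commute.one_left _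
  · rw [← hW, ← hW, htinv] at hsw
    have hh2 : (hh * t) * (hh * t) = 1 := by
      rw [← hsw]
      calc φ (ofAdd w) * (t * φ (ofAdd w⁻¹) * t) * φ (ofAdd w) * (φ (ofAdd w) * (t * φ (ofAdd w⁻¹) * t) * φ (ofAdd w))
          = φ (ofAdd w) * (t * φ (ofAdd w⁻¹) * t) * (φ (ofAdd w) * φ (ofAdd w)) *
              ((t * φ (ofAdd w⁻¹) * t) * φ (ofAdd w)) := by simp only [mul_assoc]
        _ = φ (ofAdd w) * (t * (φ (ofAdd w⁻¹) * (t * t) * φ (ofAdd w⁻¹)) * t) * φ (ofAdd w) := by
            rw [hp2 w]; simp only [mul_assoc, one_mul, mul_one]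
        _ = φ (ofAdd w) * (t * t) * φ (ofAdd w) := by
            conv_lhs => rw [ht, mul_one, hp2, mul_one]
        _ = 1 := by rw [ht, mul_one, hp2]
    rw [htinv]
    calc t * hh * t = hh⁻¹ * (hh * t * (hh * t)) := by simp only [mul_assoc, inv_mul_cancel_left]
      _ = hh⁻¹ := by rw [hh2, mul_one]
  · have huu : u * u = 1 := by rw [← pow_two]; exact hu
    rw [htinv, hbr]
    calc u * (u * t * u) * u = (u * u) * t * (u * u) := by simp only [mul_assoc]
      _ = t := by rw [huu, one_mul, mul_one]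

theorem evenRels_hold {K : Type*} [Field K] [Algebra (ZMod 2) K] {pb : PowerBasis (ZMod 2) K} {w : K} {G : Type*} [Group G] (g : Fin 3 → G)
    (R : Rels pb w 1 (g 0) (g 1) (g 2)) (ht : g 2 * g 2 = 1) :
    ∀ r ∈ evenRels pb w, FreeGroup.lift g r = 1 := by
  simp only [evenRels, List.forall_mem_cons, List.not_mem_nil, IsEmpty.forall_iff, implies_true, and_true,
    map_rl, map_pow, map_mul, map_inv, map_one, map_W, FreeGroup.lift_apply_of]
  refine ⟨ht, ?_, R.sw, R.top⟩
  have htinv : (g 2)⁻¹ = g 2 := inv_eq_of_mul_eq_one_right ht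
  have hs := R.s1
  rw [htinv] at hs
  have huu : g 0 * g 0 = 1 := by rw [← pow_two]; exact R.u_pow
  have huinv : (g 0)⁻¹ = g 0 := inv_eq_of_mul_eq_one_right huu
  calc g 2 * g 0 * g 2 = (g 0)⁻¹ * (g 0 * (g 2 * g 0 * g 2) * g 0) * (g 0)⁻¹ := by
        simp only [mul_assoc, inv_mul_cancel_left, mul_inv_cancel, mul_one]
    _ = g 0 * g 2 * g 0 := by rw [hs, huinv]

/-- The extra commutation relations: the general case. -/
noncomputable def hexRels (i j : ℕ) : List (FreeGroup (Fin 3)) :=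
  [rl (HF ^ j * UF * (HF ^ j)⁻¹) (UF * (HF ^ i * UF * (HF ^ i)⁻¹)),
   rl (UF * (HF ^ i * UF * (HF ^ i)⁻¹)) ((HF ^ i * UF * (HF ^ i)⁻¹) * UF)]

omit [Fintype F] in
theorem comm_of_hex {P : Type*} [Group P] {u h : P} {i j : ℕ}
    (hb : h ^ j * u * (h ^ j)⁻¹ = u * (h ^ i * u * (h ^ i)⁻¹))
    (hc : Commute u (h ^ i * u * (h ^ i)⁻¹)) (k l : ℕ) :
    Commute ((h ^ i) ^ k * u * ((h ^ i) ^ k)⁻¹) ((h ^ i) ^ l * u * ((h ^ i) ^ l)⁻¹) := by
  have := commute_conj_all (a := h ^ i) (b := h ^ j) (u := u) ((Commute.refl h).pow_pow i j) hc hb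
    ((l : ℤ) - k) 0
  have h2 := this.map (MulAut.conj ((h ^ i) ^ k))
  simp only [latConj, MulAut.conj_apply, zpow_zero, mul_one] at h2
  rw [show (h ^ i) ^ k * ((h ^ i) ^ ((l : ℤ) - k) * u * ((h ^ i) ^ ((l : ℤ) - k))⁻¹) * ((h ^ i) ^ k)⁻¹ =
      (h ^ i) ^ l * u * ((h ^ i) ^ l)⁻¹ by
    have e : (h ^ i) ^ k * (h ^ i) ^ ((l : ℤ) - k) = (h ^ i) ^ l := by
      rw [← zpow_natCast (h ^ i) k, ← zpow_natCast (h ^ i) l, ← _root_.zpow_add, add_sub_cancel]
    calc _ = ((h ^ i) ^ k * (h ^ i) ^ ((l : ℤ) - k)) * u * ((h ^ i) ^ k * (h ^ i) ^ ((l : ℤ) - k))⁻¹ := by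
          simp only [_root_.mul_inv_rev, mul_assoc]
      _ = _ := by rw [e]] at h2
  exact h2

variable (F) in
/-- Data for the field: the generator, the power basis and the commutation relations. -/
structure OddData (w : F) where
  i : ℕ
  pb : PowerBasis (ZMod p) F
  gen_eq : pb.gen = w ^ (2 * i)
  E : List (FreeGroup (Fin 3))
  len : E.length ≤ 2
  forces : CommForces pb i E
  hold : ∀ (hw : w ≠ 0), ∀ r ∈ E, FreeGroup.lift
    ![uG (MonoidHom.id SL(2, F)) (ofAdd 1), MonoidHom.id SL(2, F) (dSL hw), MonoidHom.id SL(2, F) jSL] r = 1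

omit [Fintype F] [Algebra (ZMod p) F] in
theorem uG_mul {G : Type*} [Group G] (π : SL(2, F) →* G) (x y : F) :
    uG π (ofAdd x) * uG π (ofAdd y) = uG π (ofAdd (x + y)) := by
  rw [← map_mul, ← ofAdd_add]

omit [Fintype F] [Algebra (ZMod p) F] in
theorem uG_conj {G : Type*} [Group G] (π : SL(2, F) →* G) {w : F} (hw : w ≠ 0) (k : ℕ) (x : F) :
    π (dSL hw) ^ k * uG π (ofAdd x) * (π (dSL hw) ^ k)⁻¹ = uG π (ofAdd (w ^ (2 * k) * x)) := by
  simp only [uG, MonoidHom.comp_apply, ← map_pow, ← map_inv, ← map_mul, dSL_pow_conj]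

theorem exists_oddData (hp3 : 3 ≤ p) {n : ℕ} (hn : Nat.card F = p ^ n) {w : F}
    (hgen : ∀ x : F, x ≠ 0 → ∃ e : ℕ, w ^ e = x) : Nonempty (OddData (p := p) F w) := by
  have hint : ∀ s : F, IsIntegral (ZMod p) s := fun s => Algebra.IsIntegral.isIntegral s
  by_cases h1 : n ≤ 1
  · have hn1 : n = 1 := by
      rcases Nat.le_one_iff_eq_zero_or_eq_one.1 h1 with h | h
      · subst h
        have := Finite.one_lt_card (α := F)
        rw [hn, pow_zero] at this
        omega
      · exact h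
    subst hn1
    rw [pow_one] at hn
    let pb := PowerBasis.ofAdjoinEqTop (hint 1) (adjoin_eq_top_of_prime hn (1 : F))
    have hgen1 : pb.gen = w ^ (2 * 0) := by rw [mul_zero, pow_zero]; exact PowerBasis.ofAdjoinEqTop_gen _ _
    refine ⟨⟨0, pb, hgen1, [], by simp, fun P _ f _ k l hkl => ?_, fun hw r hr => by simp at hr⟩⟩
    simp only [pow_zero, one_pow, one_mul, inv_one, mul_one]
    exact Commute.refl _
  push Not at h1
  have hw0 : w ≠ 0 := by
    intro h0
    haveI : CharP F p := (Algebra.charP_iff (ZMod p) F p).1 (ZMod.charP p)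
    have h2 : (2 : F) ≠ 0 := fun h => by
      have : ((2 : ℕ) : F) = 0 := by exact_mod_cast h
      have := Nat.le_of_dvd two_pos ((CharP.cast_eq_zero_iff F p 2).1 this)
      omega
    obtain ⟨e, he⟩ := hgen (-1) (neg_ne_zero.2 one_ne_zero)
    rcases Nat.eq_zero_or_pos e with rfl | he0
    · rw [pow_zero] at he; exact h2 (by linear_combination he)
    · rw [h0, zero_pow (by omega)] at he
      exact one_ne_zero (neg_eq_zero.1 he.symm)
  by_cases h9 : p = 3 ∧ n = 2
  · obtain ⟨hp, rfl⟩ := h9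
    subst hp
    have htop : Algebra.adjoin (ZMod 3) ({w ^ 2} : Set F) = ⊤ := by
      refine adjoin_eq_top_of_not_fixed hn fun d hd1 hd2 e => ?_
      obtain rfl : d = 1 := by omega
      rw [pow_one, ← pow_mul] at e
      have e4 : w ^ 4 = 1 := by
        refine mul_left_cancel₀ (pow_ne_zero 2 hw0) ?_
        rw [mul_one, ← pow_add]; exact e
      classical
      have : (Finset.univ.filter fun x : F => x ≠ 0) ⊆ (Finset.range 4).image (fun k => w ^ k) := by
        classical
        intro x hx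
        obtain ⟨k, rfl⟩ := hgen x (Finset.mem_filter.1 hx).2
        refine Finset.mem_image.2 ⟨k % 4, Finset.mem_range.2 (Nat.mod_lt _ (by norm_num)), ?_⟩
        conv_rhs => rw [← Nat.mod_add_div k 4, pow_add, pow_mul, e4, one_pow, mul_one]
      have := (Finset.card_le_card this).trans Finset.card_image_le
      rw [Finset.filter_ne', Finset.card_erase_of_mem (Finset.mem_univ _), Finset.card_univ,
        ← Nat.card_eq_fintype_card, hn] at this
      simp at this
    let pb := PowerBasis.ofAdjoinEqTop (hint (w ^ 2)) htop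
    have hgen1 : pb.gen = w ^ (2 * 1) := PowerBasis.ofAdjoinEqTop_gen _ _
    have hdim : pb.dim = 2 := by
      rw [← pb.finrank]
      have := Module.natCard_eq_pow_finrank (K := ZMod 3) (V := F)
      rw [hn, Nat.card_zmod] at this
      exact (Nat.pow_right_injective le_add_self this).symm
    refine ⟨⟨1, pb, hgen1, [rl (UF * (HF * UF * HF⁻¹)) ((HF * UF * HF⁻¹) * UF)], by simp,
      fun P _ f hE k l hkl => ?_, fun hw r hr => ?_⟩⟩
    · have hc : Commute (f UF) (f HF * f UF * (f HF)⁻¹) := by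
        have := map_rl (f := f) |>.1 (hE _ (List.mem_singleton.2 rfl))
        simpa [Commute, SemiconjBy, map_mul, map_inv] using this
      have hk := k.2
      have hl := l.2
      have hne : (k : ℕ) ≠ l := fun e => hkl (Fin.ext e)
      rcases (by omega : ((k : ℕ) = 0 ∧ (l : ℕ) = 1) ∨ ((k : ℕ) = 1 ∧ (l : ℕ) = 0)) with ⟨e1, e2⟩ | ⟨e1, e2⟩
      · simpa [e1, e2] using hc
      · simpa [e1, e2] using hc.symm
    · obtain rfl := List.mem_singleton.1 hr
      have e := uG_conj (MonoidHom.id SL(2, F)) hw 1 1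
      rw [pow_one] at e
      simp only [map_rl, map_mul, map_inv, FreeGroup.lift_apply_of, Matrix.cons_val_zero, Matrix.cons_val_one]
      rw [e, uG_mul, uG_mul, add_comm]
  obtain ⟨s, x, y, hx, hy, hxs, hys, htop⟩ := exists_square_gen (p := p) hn h1 hp3 h9
  obtain ⟨i, hi⟩ := hgen x hx
  obtain ⟨j, hj⟩ := hgen y hy
  let pb := PowerBasis.ofAdjoinEqTop (hint s) htop
  have hgen1 : pb.gen = w ^ (2 * i) := by
    rw [mul_comm, pow_mul, hi, hxs]; exact PowerBasis.ofAdjoinEqTop_gen _ _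
  refine ⟨⟨i, pb, hgen1, hexRels i j, by simp [hexRels], fun P _ f hE k l _ => ?_, fun hw r hr => ?_⟩⟩
  · simp only [hexRels, List.forall_mem_cons, map_rl, map_mul, map_inv, map_pow] at hE
    exact comm_of_hex hE.1 hE.2.1 k l
  · simp only [hexRels, List.mem_cons, List.not_mem_nil, or_false] at hr
    rcases hr with rfl | rfl <;>
      simp only [map_rl, map_mul, map_inv, map_pow, FreeGroup.lift_apply_of, Matrix.cons_val_zero,
        Matrix.cons_val_one, uG_conj (MonoidHom.id SL(2, F)) hw, uG_mul]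
    · rw [mul_comm 2 i, mul_comm 2 j, pow_mul, pow_mul, hi, hj, hxs, hys, mul_one, mul_one]
    · rw [add_comm]

/-- The presentation of an odd characteristic quotient. -/
theorem odd_pres (hp3 : 3 ≤ p) {w : F} (hgen : ∀ x : F, x ≠ 0 → ∃ e : ℕ, w ^ e = x) (hw : w ≠ 0)
    {G : Type*} [Group G] [Finite G] (π : SL(2, F) →* G) (hπ : Function.Surjective π)
    (z : FreeGroup (Fin 3)) (hz : FreeGroup.lift ![uG π (ofAdd 1), π (dSL hw), π jSL] z = 1)
    (hzc : ∀ (P : Type) [Group P] (f : FreeGroup (Fin 3) →* P), f z = 1 → Commute (f TF ^ 2) (f UF))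
    (N : ℕ) (hN : 0 < N) (hcard : N * Nat.card F * (Nat.card F + 1) ≤ Nat.card G)
    (hNw : w ^ N = 1 ∨ (w ^ N = -1 ∧ z = rl (TF ^ 2) 1)) :
    ∃ rels : Finset (FreeGroup (Fin 3)), rels.card ≤ 9 ∧
      Nonempty (PresentedGroup (↑rels : Set (FreeGroup (Fin 3))) ≃* G) := by
  classical
  haveI : CharP F p := (Algebra.charP_iff (ZMod p) F p).1 (ZMod.charP p)
  obtain ⟨n, -, hn⟩ := FiniteField.card F p
  obtain ⟨D⟩ := exists_oddData (p := p) hp3 (n := n) (by rw [Nat.card_eq_fintype_card, hn]) hgen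
  refine ⟨(z :: (oddCommon D.pb w D.i ++ D.E)).toFinset, ?_, ?_⟩
  · refine (List.toFinset_card_le _).trans ?_
    have := D.len
    simp [oddCommon]
    omega
  set rels := (z :: (oddCommon D.pb w D.i ++ D.E)).toFinset
  have R := rels_image (pb := D.pb) π hw hπ D.gen_eq
  refine iso_of_card rels ![uG π (ofAdd 1), π (dSL hw), π jSL] (fun r hr => ?_) R.gen ?_
  · simp only [rels, List.mem_toFinset, List.mem_cons, List.mem_append] at hr
    rcases hr with rfl | hr | hr
    · exact hz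
    · exact oddCommon_hold _ R r hr
    · have e : π.comp (FreeGroup.lift ![uG (MonoidHom.id SL(2, F)) (ofAdd 1), MonoidHom.id SL(2, F) (dSL hw),
          MonoidHom.id SL(2, F) jSL]) = FreeGroup.lift ![uG π (ofAdd 1), π (dSL hw), π jSL] :=
        FreeGroup.ext_hom _ _ fun k => by fin_cases k <;> simp [uG]
      rw [← e, MonoidHom.comp_apply, D.hold hw r hr, map_one π]
  let f : FreeGroup (Fin 3) →* PresentedGroup (↑rels : Set (FreeGroup (Fin 3))) := PresentedGroup.mk _
  have hf : ∀ r ∈ rels, f r = 1 := fun r hr => PresentedGroup.one_of_mem (by exact_mod_cast hr)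
  have hgenP : Subgroup.closure {f UF, f HF, f TF} = ⊤ := by
    rw [← lift_three]; exact PresentedGroup.closure_range_of _
  have RP : Rels D.pb w D.i (f UF) (f HF) (f TF) :=
    rels_of_oddCommon f D.forces (fun r hr => hf r (by simp [rels, List.mem_append.1 hr]))
      (hzc _ f (hf z (by simp [rels]))) hgenP
  obtain ⟨hb1, hb2⟩ := RP.card_le hw hgen
  rcases hNw with h | ⟨h, rfl⟩
  · exact ⟨(hb1 N hN h).1, (hb1 N hN h).2.trans hcard⟩
  · have ht : f TF ^ 2 = 1 := by
      have := hf (rl (TF ^ 2) 1) (by simp [rels])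
      rwa [map_rl, map_pow, map_one] at this
    exact ⟨(hb2 ht N hN h).1, (hb2 ht N hN h).2.trans hcard⟩

/-- The presentation in characteristic two. -/
theorem even_pres' {K : Type*} [Field K] [Fintype K] [Algebra (ZMod 2) K] {w : K} (hgen : ∀ x : K, x ≠ 0 → ∃ e : ℕ, w ^ e = x) (hw : w ≠ 0)
    {G : Type*} [Group G] [Finite G] (π : SL(2, K) →* G) (hπ : Function.Surjective π)
    (N : ℕ) (hN : 0 < N) (hcard : N * Nat.card K * (Nat.card K + 1) ≤ Nat.card G) (hNw : w ^ N = 1) :
    ∃ rels : Finset (FreeGroup (Fin 3)), rels.card ≤ 5 ∧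
      ∃ e : PresentedGroup (↑rels : Set (FreeGroup (Fin 3))) ≃* G,
        ∀ k, e (PresentedGroup.of k) = ![uG π (ofAdd 1), π (dSL hw), π jSL] k := by
  classical
  haveI : Fact (Nat.Prime 2) := ⟨Nat.prime_two⟩
  haveI : CharP K 2 := (Algebra.charP_iff (ZMod 2) K 2).1 (ZMod.charP 2)
  have hsq : ∀ x : K, x ≠ 0 → ∃ e : ℕ, w ^ (2 * e) = x := fun x hx => by
    obtain ⟨r, hr⟩ := FiniteField.isSquare_of_char_two (ringChar.eq K 2) x
    obtain ⟨e, he⟩ := hgen r (fun h => hx (by rw [hr, h, mul_zero]))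
    exact ⟨e, by rw [two_mul, pow_add, he, hr]⟩
  have htop : Algebra.adjoin (ZMod 2) ({w ^ 2} : Set K) = ⊤ := by
    rw [eq_top_iff]
    intro x _
    by_cases hx : x = 0
    · rw [hx]; exact Subalgebra.zero_mem _
    · obtain ⟨e, rfl⟩ := hsq x hx
      rw [pow_mul]
      exact Subalgebra.pow_mem _ (Algebra.subset_adjoin (Set.mem_singleton _)) e
  let pb := PowerBasis.ofAdjoinEqTop (Algebra.IsIntegral.isIntegral (R := ZMod 2) (w ^ 2)) htop
  have hgen1 : pb.gen = w ^ (2 * 1) := PowerBasis.ofAdjoinEqTop_gen _ _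
  -- the commutation relation
  obtain ⟨E, hElen, hEh, hEf⟩ : ∃ E : List (FreeGroup (Fin 3)), E.length ≤ 1 ∧
      (∀ r ∈ E, FreeGroup.lift ![uG π (ofAdd 1), π (dSL hw), π jSL] r = 1) ∧
      ∀ (P : Type) [Group P] (f : FreeGroup (Fin 3) →* P), f UF ^ 2 = 1 → (∀ r ∈ E, f r = 1) →
        ∀ k l : Fin pb.dim, k ≠ l → Commute ((f HF ^ 1) ^ (k : ℕ) * f UF * ((f HF ^ 1) ^ (k : ℕ))⁻¹)
          ((f HF ^ 1) ^ (l : ℕ) * f UF * ((f HF ^ 1) ^ (l : ℕ))⁻¹) := by
    by_cases h1 : 1 + w ^ 2 = 0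
    · refine ⟨[], by simp, by simp, fun P _ f _ _ k l hkl => absurd ?_ hkl⟩
      have hw2 : w ^ 2 = 1 := by
        rw [← CharTwo.neg_eq (w ^ 2)]; linear_combination -h1
      have hd : pb.dim ≤ 1 := by
        have hall : ∀ x : K, x = 0 ∨ x = 1 := fun x => by
          by_cases hx : x = 0
          · exact Or.inl hx
          · obtain ⟨e, rfl⟩ := hsq x hx
            exact Or.inr (by rw [pow_mul, hw2, one_pow])
        have hc : Fintype.card K ≤ 2 := by
          refine le_trans (Finset.card_le_card (t := ({0, 1} : Finset K)) fun x _ => ?_) Finset.card_le_two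
          simp [hall x]
        rw [← pb.finrank]
        have := Module.natCard_eq_pow_finrank (K := ZMod 2) (V := K)
        rw [Nat.card_eq_fintype_card, Nat.card_zmod] at this
        have h2 : 2 ^ Module.finrank (ZMod 2) K ≤ 2 ^ 1 := by omega
        exact (Nat.pow_le_pow_iff_right one_lt_two).1 h2
      exact Fin.ext (by have := k.2; have := l.2; omega)
    · obtain ⟨j, hj⟩ := hsq _ h1
      refine ⟨[rl (HF ^ j * UF * (HF ^ j)⁻¹) (UF * (HF ^ 1 * UF * (HF ^ 1)⁻¹))], by simp, fun r hr => ?_,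
        fun P _ f hu hE k l _ => ?_⟩
      · obtain rfl := List.mem_singleton.1 hr
        simp only [map_rl, map_mul, map_inv, map_pow, FreeGroup.lift_apply_of, Matrix.cons_val_zero,
          Matrix.cons_val_one, uG_conj π hw, uG_mul, hj, mul_one]
      · simp only [List.forall_mem_cons, map_rl, map_mul, map_inv, map_pow] at hE
        refine comm_of_hex hE.1 ?_ k l
        have huu : f UF * f UF = 1 := by rw [← pow_two]; exact hu
        have hvv : (f HF ^ 1 * f UF * (f HF ^ 1)⁻¹) ^ 2 = 1 := by rw [conj_pow, hu, mul_one, mul_inv_cancel]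
        have hprod : (f UF * (f HF ^ 1 * f UF * (f HF ^ 1)⁻¹)) ^ 2 = 1 := by
          rw [← hE.1, conj_pow, hu, mul_one, mul_inv_cancel]
        rw [pow_two] at hvv hprod
        have hi1 : (f UF)⁻¹ = f UF := inv_eq_of_mul_eq_one_right huu
        have hi2 := inv_eq_of_mul_eq_one_right hvv
        have hi3 := inv_eq_of_mul_eq_one_right hprod
        rw [_root_.mul_inv_rev, hi1, hi2] at hi3
        exact hi3.symm
  refine ⟨(evenRels pb w ++ E).toFinset, ?_, ?_⟩
  · refine (List.toFinset_card_le _).trans ?_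
    simp [evenRels]
    omega
  set rels := (evenRels pb w ++ E).toFinset
  have R := rels_image (pb := pb) π hw hπ hgen1
  have ht : π jSL * π jSL = 1 := by
    rw [← map_mul]
    have : (jSL : SL(2, K)) * jSL = 1 := by
      apply Matrix.SpecialLinearGroup.ext
      intro a b
      rw [Matrix.SpecialLinearGroup.coe_mul, jSL_coe, Matrix.SpecialLinearGroup.coe_one]
      fin_cases a <;> fin_cases b <;> simp [Matrix.mul_apply, Fin.sum_univ_two, CharTwo.neg_eq]
    rw [this, map_one]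
  refine iso_of_card' rels ![uG π (ofAdd 1), π (dSL hw), π jSL] (fun r hr => ?_) R.gen ?_
  · simp only [rels, List.mem_toFinset, List.mem_append] at hr
    rcases hr with hr | hr
    · exact evenRels_hold _ R ht r hr
    · exact hEh r hr
  let f : FreeGroup (Fin 3) →* PresentedGroup (↑rels : Set (FreeGroup (Fin 3))) := PresentedGroup.mk _
  have hf : ∀ r ∈ rels, f r = 1 := fun r hr => PresentedGroup.one_of_mem (by exact_mod_cast hr)
  have hgenP : Subgroup.closure {f UF, f HF, f TF} = ⊤ := by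
    rw [← lift_three]; exact PresentedGroup.closure_range_of _
  have RP : Rels pb w 1 (f UF) (f HF) (f TF) :=
    rels_of_evenRels (by rw [hgen1, mul_one]) f (hEf _ f)
      (fun r hr => hf r (by simpa [rels] using hr)) hgenP
  exact ⟨((RP.card_le hw hgen).1 N hN hNw).1, ((RP.card_le hw hgen).1 N hN hNw).2.trans hcard⟩

/-- The presentation in characteristic two, without the values on the generators. -/
theorem even_pres {K : Type*} [Field K] [Fintype K] [Algebra (ZMod 2) K] {w : K} (hgen : ∀ x : K, x ≠ 0 → ∃ e : ℕ, w ^ e = x) (hw : w ≠ 0)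
    {G : Type*} [Group G] [Finite G] (π : SL(2, K) →* G) (hπ : Function.Surjective π)
    (N : ℕ) (hN : 0 < N) (hcard : N * Nat.card K * (Nat.card K + 1) ≤ Nat.card G) (hNw : w ^ N = 1) :
    ∃ rels : Finset (FreeGroup (Fin 3)), rels.card ≤ 5 ∧
      Nonempty (PresentedGroup (↑rels : Set (FreeGroup (Fin 3))) ≃* G) :=
  let ⟨r, h, e, _⟩ := even_pres' hgen hw π hπ N hN hcard hNw
  ⟨r, h, ⟨e⟩⟩

end CfsgLib.SL2Pres
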