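import Cfsg.Agent.Lib.KnownB.Pres.Words
import Cfsg.Agent.Lib.KnownB.Pres.Core
import Cfsg.Agent.Lib.KnownB.Pres.Hex
import Cfsg.Agent.Lib.Classical.SL2Sylow

/-!
# From relation systems to the axioms, and the images in the matrix group
-/

set_option autoImplicit false

open Multiplicative Matrix CfsgLib.Classical
open scoped MatrixGroups

namespace CfsgLib.SL2Pres

variable {p : ℕ} [Fact p.Prime] {F : Type*} [Field F] [Algebra (ZMod p) F]
  (pb : PowerBasis (ZMod p) F)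

/-- The relations on a triple `u, h, t`. -/
structure Rels {P : Type*} [Group P] (w : F) (i : ℕ) (u h t : P) : Prop where
  u_pow : u ^ p = 1
  comm : ∀ k l : Fin pb.dim, k ≠ l → Commute ((h ^ i) ^ (k : ℕ) * u * ((h ^ i) ^ (k : ℕ))⁻¹)
    ((h ^ i) ^ (l : ℕ) * u * ((h ^ i) ^ (l : ℕ))⁻¹)
  top : (h ^ i) ^ pb.dim * u * ((h ^ i) ^ pb.dim)⁻¹ = wordOn pb u (h ^ i) (pb.gen ^ pb.dim)
  hu : h * u * h⁻¹ = wordOn pb u (h ^ i) (w ^ 2)
  tz : Commute (t ^ 2) u
  th : t * h * t⁻¹ = h⁻¹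
  s1 : u * (t * u * t⁻¹) * u = t
  sw : wordOn pb u (h ^ i) w * (t * wordOn pb u (h ^ i) w⁻¹ * t⁻¹) * wordOn pb u (h ^ i) w = h * t
  gen : Subgroup.closure {u, h, t} = ⊤

variable {pb}

theorem Rels.axioms {P : Type*} [Group P] {w : F} {i : ℕ} {u h t : P} (R : Rels pb w i u h t) :
    ∃ φ : Multiplicative F →* P, Axioms w φ h t := by
  obtain ⟨φ, h1, ha, hw⟩ := exists_hom R.u_pow R.comm R.top
  have hconj : ∀ (c : P) (d : F), c * φ (ofAdd 1) * c⁻¹ = φ (ofAdd d) → Commute c (h ^ i) →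
      ∀ x : F, c * φ (ofAdd x) * c⁻¹ = φ (ofAdd (d * x)) := by
    intro c d h1' hc x
    have key : (MulAut.conj c).toMonoidHom.comp φ =
        φ.comp (AddMonoidHom.toMultiplicative (AddMonoidHom.mulLeft d)) := by
      refine hom_ext (pb := pb) _ _ fun k => ?_
      show c * φ (ofAdd (pb.gen ^ (k : ℕ))) * c⁻¹ = φ (ofAdd (d * pb.gen ^ (k : ℕ)))
      induction (k : ℕ) with
      | zero => simpa using h1'
      | succ k ih =>
        rw [pow_succ' pb.gen, ← ha, ← mul_assoc d, mul_comm d, mul_assoc pb.gen, ← ha, ← ih]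
        calc c * (h ^ i * φ (ofAdd (pb.gen ^ k)) * (h ^ i)⁻¹) * c⁻¹
            = (c * h ^ i) * φ (ofAdd (pb.gen ^ k)) * ((h ^ i)⁻¹ * c⁻¹) := by simp only [mul_assoc]
          _ = (h ^ i * c) * φ (ofAdd (pb.gen ^ k)) * (c⁻¹ * (h ^ i)⁻¹) := by
              rw [hc.eq, hc.inv_inv.eq]
          _ = _ := by simp only [mul_assoc]
    exact DFunLike.congr_fun key (ofAdd x)
  refine ⟨φ, ⟨fun x => hconj h (w ^ 2) ?_ (Commute.self_pow h i) x, R.th, fun x => ?_, ?_, ?_, ?_⟩⟩
  · rw [h1, hw]; exact R.hu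
  · have hth : Commute (t ^ 2) h := by
      have e : t ^ 2 * h * (t ^ 2)⁻¹ = h := by
        calc t ^ 2 * h * (t ^ 2)⁻¹ = t * (t * h * t⁻¹) * t⁻¹ := by
              rw [pow_two, _root_.mul_inv_rev]; simp only [mul_assoc]
          _ = t * h⁻¹ * t⁻¹ := by rw [R.th]
          _ = (t * h * t⁻¹)⁻¹ := conj_inv.symm
          _ = h := by rw [R.th, inv_inv]
      exact mul_inv_eq_iff_eq_mul.1 e
    have e := hconj (t ^ 2) 1 (by rw [h1, R.tz.eq, mul_inv_cancel_right]) (hth.pow_right i) x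
    rw [one_mul] at e
    exact mul_inv_eq_iff_eq_mul.1 e
  · simp only [steinWord, inv_one, h1]; exact R.s1
  · simp only [steinWord, hw]; exact R.sw
  · refine eq_top_iff.2 (R.gen.ge.trans (Subgroup.closure_mono ?_))
    intro z hz
    rcases hz with rfl | rfl | rfl
    · exact Or.inl ⟨ofAdd 1, h1⟩
    · exact Or.inr (Or.inl rfl)
    · exact Or.inr (Or.inr rfl)

/-- A presented group with these relations is finite of bounded order. -/
theorem Rels.card_le [Finite F] {P : Type*} [Group P] {w : F} {i : ℕ} {u h t : P} (R : Rels pb w i u h t)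
    (hw : w ≠ 0) (hgen : ∀ x : F, x ≠ 0 → ∃ e : ℕ, w ^ e = x) :
    (∀ N : ℕ, 0 < N → w ^ N = 1 → Finite P ∧ Nat.card P ≤ N * Nat.card F * (Nat.card F + 1)) ∧
    (t ^ 2 = 1 → ∀ N : ℕ, 0 < N → w ^ N = -1 → Finite P ∧ Nat.card P ≤ N * Nat.card F * (Nat.card F + 1)) := by
  obtain ⟨φ, A⟩ := R.axioms
  refine ⟨fun N hN h1 => A.card_le hw hgen hN (A.h_pow_eq_one hw h1), fun ht N hN h1 => A.card_le hw hgen hN ?_⟩
  have := A.t_sq hw h1
  rw [← pow_two, ht] at this
  exact inv_eq_one.1 this.symm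

/-! ### The matrix images -/

/-- The diagonal element. -/
def dSL {w : F} (hw : w ≠ 0) : SL(2, F) :=
  (⟨!![w, 0; 0, w⁻¹], by simp [Matrix.det_fin_two, hw]⟩ :
    {A : Matrix (Fin 2) (Fin 2) F // A.det = 1})

/-- The Weyl element. -/
def jSL : SL(2, F) :=
  (⟨!![0, 1; -1, 0], by simp [Matrix.det_fin_two]⟩ : {A : Matrix (Fin 2) (Fin 2) F // A.det = 1})

omit [Algebra (ZMod p) F] in
theorem dSL_coe {w : F} (hw : w ≠ 0) :
    ((dSL hw : SL(2, F)) : Matrix (Fin 2) (Fin 2) F) = !![w, 0; 0, w⁻¹] := rfl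

omit [Algebra (ZMod p) F] in
theorem jSL_coe : ((jSL : SL(2, F)) : Matrix (Fin 2) (Fin 2) F) = !![0, 1; -1, 0] := rfl

variable {G : Type*} [Group G] (π : SL(2, F) →* G) {w : F} (hw : w ≠ 0)

/-- The homomorphism on the field in the target. -/
def uG : Multiplicative F →* G := π.comp uSL

omit [Algebra (ZMod p) F] in
theorem dSL_pow_conj (k : ℕ) (x : F) :
    (dSL hw) ^ k * uSL (ofAdd x) * ((dSL hw) ^ k)⁻¹ = uSL (ofAdd (w ^ (2 * k) * x)) := by
  induction k with
  | zero => simp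
  | succ k ih =>
    have e1 : ∀ y : F, dSL hw * uSL (ofAdd y) = uSL (ofAdd (w ^ 2 * y)) * dSL hw := fun y => by
      apply Matrix.SpecialLinearGroup.ext
      intro a b
      rw [Matrix.SpecialLinearGroup.coe_mul, Matrix.SpecialLinearGroup.coe_mul, dSL_coe, uSL_coe, uSL_coe]
      fin_cases a <;> fin_cases b <;> simp [Matrix.mul_apply, Fin.sum_univ_two] <;> field_simp
    calc (dSL hw) ^ (k + 1) * uSL (ofAdd x) * ((dSL hw) ^ (k + 1))⁻¹
        = dSL hw * ((dSL hw) ^ k * uSL (ofAdd x) * ((dSL hw) ^ k)⁻¹) * (dSL hw)⁻¹ := by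
          rw [pow_succ', _root_.mul_inv_rev]; simp only [mul_assoc]
      _ = _ := by
          rw [ih, e1, mul_inv_cancel_right, ← mul_assoc, ← pow_add, show 2 + 2 * k = 2 * (k + 1) by ring]

theorem wordOn_image {i : ℕ} (hi : pb.gen = w ^ (2 * i)) (x : F) :
    uG π (ofAdd x) = wordOn pb (uG π (ofAdd 1)) ((π (dSL hw)) ^ i) x := by
  refine eval_wordOn (uG π) rfl (fun y => ?_) x
  rw [hi, uG, MonoidHom.comp_apply, MonoidHom.comp_apply, ← dSL_pow_conj hw i y]
  simp only [map_mul, map_inv, map_pow]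

omit [Algebra (ZMod p) F] in
theorem jSL_mul_dSL : jSL * dSL hw * jSL⁻¹ = (dSL hw)⁻¹ := by
  rw [mul_inv_eq_iff_eq_mul, eq_inv_mul_iff_mul_eq]
  apply Matrix.SpecialLinearGroup.ext
  intro a b
  rw [Matrix.SpecialLinearGroup.coe_mul, Matrix.SpecialLinearGroup.coe_mul, dSL_coe, jSL_coe]
  fin_cases a <;> fin_cases b <;> simp [Matrix.mul_apply, Fin.sum_univ_two, hw]

omit [Algebra (ZMod p) F] in
theorem stein_image {x : F} (hx : x ≠ 0) :
    uSL (ofAdd x) * (jSL * uSL (ofAdd x⁻¹) * jSL⁻¹) * uSL (ofAdd x) = dSL hx * jSL := by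
  apply Matrix.SpecialLinearGroup.ext
  intro a b
  simp only [Matrix.SpecialLinearGroup.coe_mul, Matrix.SpecialLinearGroup.coe_inv, dSL_coe, jSL_coe, uSL_coe,
    Matrix.adjugate_fin_two]
  fin_cases a <;> fin_cases b <;> simp [Matrix.mul_apply, Fin.sum_univ_two, hx]

/-- The relations hold in the image. -/
theorem rels_image [CharP F p] (hπ : Function.Surjective π) {i : ℕ} (hi : pb.gen = w ^ (2 * i)) :
    Rels pb w i (uG π (ofAdd 1)) (π (dSL hw)) (π jSL) := by
  have hW := wordOn_image (pb := pb) π hw hi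
  have hconj : ∀ (k : ℕ) (x : F),
      π (dSL hw) ^ k * uG π (ofAdd x) * (π (dSL hw) ^ k)⁻¹ = uG π (ofAdd (w ^ (2 * k) * x)) := fun k x => by
    simp only [uG, MonoidHom.comp_apply, ← map_pow, ← map_inv, ← map_mul, dSL_pow_conj]
  have hgenW : ∀ x : F, uG π (ofAdd x) ∈ Subgroup.closure {uG π (ofAdd 1), π (dSL hw), π jSL} := by
    intro x
    rw [hW x, wordOn]
    refine Subgroup.list_prod_mem _ fun z hz => ?_
    obtain ⟨k, -, rfl⟩ := List.mem_map.1 hz
    have hh : π (dSL hw) ∈ Subgroup.closure {uG π (ofAdd 1), π (dSL hw), π jSL} := Subgroup.subset_closure (by simp)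
    exact Subgroup.pow_mem _ (Subgroup.mul_mem _ (Subgroup.mul_mem _ (Subgroup.pow_mem _ (Subgroup.pow_mem _ hh _) _)
      (Subgroup.subset_closure (by simp))) (Subgroup.inv_mem _ (Subgroup.pow_mem _ (Subgroup.pow_mem _ hh _) _))) _
  refine ⟨?_, fun k l _ => ?_, ?_, ?_, ?_, ?_, ?_, ?_, ?_⟩
  · rw [← map_pow, ← ofAdd_nsmul, nsmul_eq_mul, mul_one, CharP.cast_eq_zero]
    simp
  · rw [← pow_mul, ← pow_mul, hconj, hconj]
    exact (Commute.all (ofAdd (w ^ (2 * (i * (k : ℕ))) * 1)) (ofAdd (w ^ (2 * (i * (l : ℕ))) * 1))).map (uG π)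
  · rw [← hW, ← pow_mul, hconj, hi, ← pow_mul, mul_one, mul_assoc]
  · rw [← hW]
    simpa using hconj 1 1
  · show Commute ((π jSL) ^ 2) (π (uSL (ofAdd 1)))
    rw [← map_pow]
    refine Commute.map ?_ π
    apply Matrix.SpecialLinearGroup.ext
    intro a b
    simp only [pow_two, Matrix.SpecialLinearGroup.coe_mul, jSL_coe, uSL_coe]
    fin_cases a <;> fin_cases b <;> simp [Matrix.mul_apply, Fin.sum_univ_two]
  · rw [← map_inv, ← map_mul, ← map_mul, jSL_mul_dSL, map_inv]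
  · have e := congrArg π (stein_image (F := F) (x := 1) one_ne_zero)
    have h1 : dSL (one_ne_zero (α := F)) = 1 := by
      apply Matrix.SpecialLinearGroup.ext
      intro a b
      rw [dSL_coe, Matrix.SpecialLinearGroup.coe_one]
      fin_cases a <;> fin_cases b <;> simp
    rw [h1, one_mul, inv_one] at e
    simpa [uG] using e
  · rw [← hW, ← hW]
    have e := congrArg π (stein_image (F := F) hw)
    simpa [uG] using e
  · rw [eq_top_iff]
    intro g _
    obtain ⟨s, rfl⟩ := hπ g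
    suffices h : (Subgroup.closure {uG π (ofAdd 1), π (dSL hw), π jSL}).comap π = ⊤ by
      exact Subgroup.mem_comap.1 (h ▸ Subgroup.mem_top s)
    have hup : ∀ c : F, SpecialLinearGroup.transvection (zero_ne_one : (0 : Fin 2) ≠ 1) c ∈
        (Subgroup.closure {uG π (ofAdd 1), π (dSL hw), π jSL}).comap π := fun c => hgenW c
    refine sl2_transvections_generate _ hup fun c => ?_
    have e : SpecialLinearGroup.transvection (one_ne_zero : (1 : Fin 2) ≠ 0) c = jSL * uSL (ofAdd (-c)) * jSL⁻¹ := by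
      apply Matrix.SpecialLinearGroup.ext
      intro a b
      simp only [Matrix.SpecialLinearGroup.coe_mul, Matrix.SpecialLinearGroup.coe_inv, jSL_coe, uSL_coe,
        Matrix.adjugate_fin_two]
      fin_cases a <;> fin_cases b <;>
        simp [Matrix.mul_apply, Fin.sum_univ_two, SpecialLinearGroup.transvection, Matrix.transvection, Matrix.single]
    have hj : π jSL ∈ Subgroup.closure {uG π (ofAdd 1), π (dSL hw), π jSL} := Subgroup.subset_closure (by simp)
    rw [e, Subgroup.mem_comap, map_mul, map_mul, map_inv]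
    exact Subgroup.mul_mem _ (Subgroup.mul_mem _ hj (hgenW (-c))) (Subgroup.inv_mem _ hj)

end CfsgLib.SL2Pres
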