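import Cfsg.Agent.Lib.KnownB.Pres.Core

/-!
# The rank one Steinberg relations force the axioms of `SL(2, q)`
-/

set_option autoImplicit false

open Multiplicative

namespace CfsgLib.SL2Pres

/-- Root elements of a group satisfying the rank one Steinberg relations. -/
structure Stein {K : Type*} [Field K] {P : Type*} [Group P] (x : Bool → K → P) : Prop where
  add : ∀ b t u, x b t * x b u = x b (t + u)
  weyl : ∀ b t u, t ≠ 0 →
    (x b t * x (!b) (-t⁻¹) * x b t) * x b u * (x b t * x (!b) (-t⁻¹) * x b t)⁻¹ = x (!b) (-(t⁻¹ ^ 2 * u))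
  gen : Subgroup.closure (Set.range (Function.uncurry x)) = ⊤

namespace Stein

variable {K : Type*} [Field K] {P : Type*} [Group P] {x : Bool → K → P} (S : Stein x)

/-- The Weyl element of a nonzero field element. -/
def weylElt (x : Bool → K → P) (t : K) : P := x true t * x false (-t⁻¹) * x true t

local notation "W" => weylElt x

include S

theorem x_zero (b : Bool) : x b 0 = 1 := by
  have := S.add b 0 0
  rw [add_zero] at this
  exact mul_eq_right.1 this

theorem x_neg (b : Bool) (t : K) : x b (-t) = (x b t)⁻¹ :=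
  eq_inv_of_mul_eq_one_left (by rw [S.add, neg_add_cancel, S.x_zero])

theorem weyl_swap {t : K} (ht : t ≠ 0) : W t = x false (-t⁻¹) * x true t * x false (-t⁻¹) := by
  have e := S.weyl true t t ht
  rw [show t⁻¹ ^ 2 * t = t⁻¹ by field_simp, mul_inv_eq_iff_eq_mul] at e
  simp only [Bool.not_true] at e
  refine mul_right_cancel (b := x true t) ?_
  rw [weylElt, e]
  simp only [mul_assoc]

theorem weyl_x {t : K} (ht : t ≠ 0) (u : K) :
    W t * x true u * (W t)⁻¹ = x false (-(t⁻¹ ^ 2 * u)) := S.weyl true t u ht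

theorem weyl_y {t : K} (ht : t ≠ 0) (v : K) :
    W t * x false v * (W t)⁻¹ = x true (-(t ^ 2 * v)) := by
  have e := S.weyl false (-t⁻¹) v (neg_ne_zero.2 (inv_ne_zero ht))
  simp only [Bool.not_false, inv_neg, inv_inv, neg_neg, neg_sq] at e
  rw [S.weyl_swap ht]
  exact e

theorem weyl_neg (t : K) : W (-t) = (W t)⁻¹ := by
  simp only [weylElt, inv_neg, neg_neg, S.x_neg true t, mul_inv_rev]
  rw [← neg_neg t⁻¹, S.x_neg false (-t⁻¹), neg_neg]
  simp only [mul_assoc]

/-- An element commuting with both root subgroups is central. -/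
theorem commute_all {c : P} (h : ∀ b u, c * x b u * c⁻¹ = x b u) (g : P) : Commute c g := by
  have hle : Subgroup.closure (Set.range (Function.uncurry x)) ≤ Subgroup.centralizer {c} := by
    rw [Subgroup.closure_le]
    rintro _ ⟨⟨b, u⟩, rfl⟩
    rw [SetLike.mem_coe, Subgroup.mem_centralizer_singleton_iff]
    exact (mul_inv_eq_iff_eq_mul.1 (h b u)).symm
  rw [S.gen] at hle
  exact (Subgroup.mem_centralizer_singleton_iff.1 (hle (Subgroup.mem_top g))).symm

omit S in
theorem conj_mul' (a b y : P) : (a * b) * y * (a * b)⁻¹ = a * (b * y * b⁻¹) * a⁻¹ := by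
  simp only [mul_inv_rev, mul_assoc]

omit S in
/-- A field element not a square is a sum of two nonzero squares. -/
theorem exists_sq_add [Finite K] {w : K} (hw : w ≠ 0) (hns : ¬IsSquare w) :
    ∃ r s : K, r ≠ 0 ∧ s ≠ 0 ∧ r ^ 2 + s ^ 2 = w := by
  classical
  cases nonempty_fintype K
  have hodd : Fintype.card K % 2 = 1 :=
    FiniteField.odd_card_of_char_ne_two fun h => hns (FiniteField.isSquare_of_char_two h w)
  obtain ⟨r, s, hrs⟩ := FiniteField.exists_root_sum_quadratic
    (f := (Polynomial.X ^ 2 : Polynomial K)) (g := Polynomial.X ^ 2 - Polynomial.C w)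
    (Polynomial.degree_X_pow 2) (Polynomial.degree_X_pow_sub_C (by norm_num) w) hodd
  simp only [Polynomial.eval_pow, Polynomial.eval_X, Polynomial.eval_sub, Polynomial.eval_C] at hrs
  refine ⟨r, s, ?_, ?_, by linear_combination hrs⟩
  · rintro rfl
    exact hns ⟨s, by linear_combination -hrs⟩
  · rintro rfl
    exact hns ⟨r, by linear_combination -hrs⟩

/-- The identity behind the multiplicativity of the torus. -/
theorem weyl_triple {a b : K} (ha : a ≠ 0) (hb : b ≠ 0) (hab : a + b ≠ 0) :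
    W (-(a ^ 2 / (a + b))) * W a * W b = W (a * b / (a + b)) := by
  have hy : ∀ s : K, x false (-s⁻¹) = x true (-s) * W s * x true (-s) := fun s => by
    simp only [weylElt, S.x_neg, mul_assoc, mul_inv_cancel, mul_one, inv_mul_cancel_left]
  set c := a * b / (a + b) with hc
  set d := -(a ^ 2 / (a + b)) with hd
  have e0 : x false (-a⁻¹) * x false (-b⁻¹) = x false (-c⁻¹) := by
    rw [S.add]; congr 1; rw [hc]; field_simp; ring
  have e1 : W a * x true (-(a + b)) = x false (-d⁻¹) * W a := by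
    rw [← mul_inv_eq_iff_eq_mul, S.weyl_x ha]; congr 1; rw [hd]; field_simp
  have e2 : x true (-d) * (W a * W b) = W a * W b * x true (-(d * b ^ 2 / a ^ 2)) := by
    symm
    rw [← mul_inv_eq_iff_eq_mul, conj_mul', S.weyl_x hb, S.weyl_y ha]
    congr 1; field_simp
  have hl : -a + -d = -c := by rw [hc, hd]; field_simp; ring
  have hr : -(d * b ^ 2 / a ^ 2) + -b = -c := by rw [hc, hd]; field_simp; ring
  have e3 : x true (-c) * (W d * W a * W b) * x true (-c) = x true (-c) * W c * x true (-c) := by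
    calc x true (-c) * (W d * W a * W b) * x true (-c)
        = x true (-a + -d) * (W d * W a * W b) * x true (-(d * b ^ 2 / a ^ 2) + -b) := by rw [hl, hr]
      _ = x true (-a) * (x true (-d) * W d) * (W a * W b * x true (-(d * b ^ 2 / a ^ 2))) * x true (-b) := by
          rw [← S.add, ← S.add]; simp only [mul_assoc]
      _ = x true (-a) * (x true (-d) * W d * x true (-d) * W a) * W b * x true (-b) := by
          rw [← e2]; simp only [mul_assoc]
      _ = x true (-a) * (W a * x true (-(a + b))) * W b * x true (-b) := by rw [← hy, e1]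
      _ = (x true (-a) * W a * x true (-a)) * (x true (-b) * W b * x true (-b)) := by
          rw [show -(a + b) = -a + -b by ring, ← S.add]; simp only [mul_assoc]
      _ = _ := by rw [← hy, ← hy, e0, hy]
  exact mul_left_cancel (mul_right_cancel e3)

/-- The Steinberg relations give the axioms. -/
theorem axioms [Finite K] {w : K} (hw : w ≠ 0) (hgen : ∀ s : K, s ≠ 0 → ∃ e : ℕ, w ^ e = s) :
    ∃ (φ : Multiplicative K →* P) (h t : P), Axioms w φ h t := by
  set T := W 1 with hT
  set h := W w * T⁻¹ with hh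
  have hTinv : T⁻¹ = W (-1) := (S.weyl_neg 1).symm
  have hm1 : (-1 : K) ≠ 0 := neg_ne_zero.2 one_ne_zero
  have hTx : ∀ u, T * x true u * T⁻¹ = x false (-u) := fun u => by
    rw [hT, S.weyl_x one_ne_zero]; simp
  have hTy : ∀ v, T * x false v * T⁻¹ = x true (-v) := fun v => by
    rw [hT, S.weyl_y one_ne_zero]; simp
  have hx : ∀ u, h * x true u * h⁻¹ = x true (w ^ 2 * u) := fun u => by
    rw [hh, conj_mul', hTinv, S.weyl_x hm1, S.weyl_y hw]; simp
  have hy : ∀ v, h * x false v * h⁻¹ = x false (w⁻¹ ^ 2 * v) := fun v => by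
    rw [hh, conj_mul', hTinv, S.weyl_y hm1, S.weyl_x hw]; simp
  have hW : ∀ s, h * W s * h⁻¹ = W (w ^ 2 * s) := fun s => by
    have e : h * W s * h⁻¹ = (h * x true s * h⁻¹) * (h * x false (-s⁻¹) * h⁻¹) * (h * x true s * h⁻¹) := by
      simp only [weylElt, mul_assoc, inv_mul_cancel_left]
    rw [e, hx, hy, weylElt]
    congr 3
    field_simp
  -- central elements
  have hT2 : ∀ g, Commute (T * T) g := S.commute_all fun b u => by
    rw [conj_mul']
    cases b
    · rw [hTy, hTx, neg_neg]
    · rw [hTx, hTy, neg_neg]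
  set z := T * h * T⁻¹ * h with hz
  have hzc : ∀ g, Commute z g := S.commute_all fun b u => by
    have hTi : ∀ (b : Bool) (u : K), T⁻¹ * x b u * T = x (!b) (-u) := fun b u => by
      cases b
      · rw [← neg_neg u, ← hTx (-u)]; simp [mul_assoc]
      · rw [← neg_neg u, ← hTy (-u)]; simp [mul_assoc]
    rw [hz, conj_mul', conj_mul', conj_mul', inv_inv]
    cases b
    · rw [hy, hTi, Bool.not_false, hx, hTx]; congr 1; field_simp
    · rw [hx, hTi, Bool.not_true, hy, hTy]; congr 1; field_simp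
  have hTh : T * h * T⁻¹ = z * h⁻¹ := by rw [hz, mul_inv_cancel_right]
  have hTh' : T⁻¹ * h * T = z * h⁻¹ := by
    rw [← hTh]
    calc T⁻¹ * h * T = T⁻¹ * (h * (T * T)) * T⁻¹ := by simp [mul_assoc]
      _ = T * h * T⁻¹ := by rw [← (hT2 h).eq]; simp [mul_assoc]
  set k := h ^ 2 * z⁻¹ with hk
  have hkh : Commute k h := ((Commute.refl h).pow_left 2).mul_left (hzc h).inv_left
  have hhT : h * T * h⁻¹ = k * T := by
    have e : T * h⁻¹ = h * z⁻¹ * T := by
      have := congrArg (·⁻¹) hTh
      simp only [mul_inv_rev, inv_inv] at this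
      rw [← this]; simp [mul_assoc]
    rw [mul_assoc, e, hk, pow_two]; simp only [mul_assoc]
  have hTk : T⁻¹ * k * T = k⁻¹ := by
    have e : T⁻¹ * k * T = (T⁻¹ * h * T) ^ 2 * (T⁻¹ * z * T)⁻¹ := by
      rw [hk, pow_two, pow_two]; simp [mul_assoc]
    have e2 : T⁻¹ * z * T = z := by rw [mul_assoc, (hzc T).eq, inv_mul_cancel_left]
    have e4 : (z * h⁻¹) ^ 2 * z⁻¹ = z * (h ^ 2)⁻¹ := by
      rw [(hzc h⁻¹).mul_pow, inv_pow, mul_assoc, ← (hzc (h ^ 2)⁻¹).inv_left.eq, ← mul_assoc]
      simp [pow_two, mul_assoc]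
    have e5 : k⁻¹ = z * (h ^ 2)⁻¹ := by rw [hk]; simp only [mul_inv_rev, inv_inv]
    rw [e, hTh', e2, e4, e5]
  have hev : ∀ i : ℕ, W (w ^ (2 * i)) = k ^ i * T := by
    intro i
    induction i with
    | zero => simp [hT]
    | succ i ih =>
      rw [mul_add, mul_one, add_comm, pow_add, ← hW, ih, pow_succ, mul_assoc (k ^ i) k, ← hhT]
      have := (hkh.pow_left i).eq
      simp only [mul_assoc]
      rw [← mul_assoc h, ← this, mul_assoc]
  have hodd : ∀ i : ℕ, W (w ^ (2 * i + 1)) = k ^ i * (h * T) := by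
    intro i
    induction i with
    | zero => simp [hh]
    | succ i ih =>
      rw [show 2 * (i + 1) + 1 = 2 + (2 * i + 1) by ring, pow_add, ← hW, ih, pow_succ]
      calc h * (k ^ i * (h * T)) * h⁻¹ = (h * k ^ i) * h * T * h⁻¹ := by simp only [mul_assoc]
        _ = k ^ i * h * (h * T * h⁻¹) := by rw [← (hkh.pow_left i).eq]; simp only [mul_assoc]
        _ = k ^ i * (h * k) * T := by rw [hhT]; simp only [mul_assoc]
        _ = _ := by rw [← hkh.eq]; simp only [mul_assoc]
  have hth : T * h * T⁻¹ = h⁻¹ := by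
    by_cases hsq : IsSquare w
    · obtain ⟨r, hr⟩ := hsq
      obtain ⟨i, rfl⟩ := hgen r (fun h0 => hw (by rw [hr, h0, mul_zero]))
      have e := hev i
      rw [two_mul, pow_add, ← hr] at e
      have hki : h = k ^ i := by rw [hh, e, mul_inv_cancel_right]
      have e2 := congrArg (·⁻¹) (show (T⁻¹ * k * T) ^ i = (k ^ i)⁻¹ by rw [hTk, inv_pow])
      have e3 : (T⁻¹ * k * T) ^ i = T⁻¹ * k ^ i * T := by
        simpa using conj_pow (a := T⁻¹) (b := k) (i := i)
      rw [e3, ← hki] at e2
      rw [hTh, ← hTh', ← inv_inv (T⁻¹ * h * T), e2, inv_inv]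
    · obtain ⟨r, s, hr, hs, hrs⟩ := exists_sq_add hw hsq
      obtain ⟨e, rfl⟩ := hgen r hr
      obtain ⟨f, rfl⟩ := hgen s hs
      have hsum : w ^ (2 * e + 1) + w ^ (2 * f + 1) = w ^ 2 := by
        linear_combination w * hrs
      have key := S.weyl_triple (pow_ne_zero (2 * e + 1) hw) (pow_ne_zero (2 * f + 1) hw)
        (by rw [hsum]; exact pow_ne_zero 2 hw)
      rw [hsum, show (w ^ (2 * e + 1)) ^ 2 / w ^ 2 = w ^ (2 * (2 * e)) by field_simp; ring,
        show w ^ (2 * e + 1) * w ^ (2 * f + 1) / w ^ 2 = w ^ (2 * (e + f)) by field_simp; ring,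
        S.weyl_neg, hev, hev, hodd, hodd] at key
      have e3 : T⁻¹ * (k ^ e)⁻¹ * T = k ^ e := by
        have e4 : (T⁻¹ * k * T) ^ e = T⁻¹ * k ^ e * T := by
          simpa using conj_pow (a := T⁻¹) (b := k) (i := e)
        have := congrArg (·⁻¹) e4
        simp only [hTk, inv_pow, inv_inv, mul_inv_rev] at this
        calc T⁻¹ * (k ^ e)⁻¹ * T = T⁻¹ * ((k ^ e)⁻¹ * T) := mul_assoc _ _ _
          _ = k ^ e := this.symm
      have key2 : z * k ^ (e + f) * T = k ^ (e + f) * T := by
        calc z * k ^ (e + f) * T = (T⁻¹ * (k ^ e)⁻¹ * T) * (z * h⁻¹) * k ^ f * h * T := by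
              rw [e3, pow_add]
              have hf := (hkh.pow_left f).eq
              calc z * (k ^ e * k ^ f) * T = k ^ e * z * (h⁻¹ * (h * k ^ f)) * T := by
                    rw [← mul_assoc z, (hzc (k ^ e)).eq, inv_mul_cancel_left]
                _ = _ := by rw [← hf]; simp only [mul_assoc]
          _ = (T⁻¹ * (k ^ e)⁻¹ * T) * (T⁻¹ * h * T) * k ^ f * h * T := by rw [hTh']
          _ = (k ^ (2 * e) * T)⁻¹ * (k ^ e * (h * T)) * (k ^ f * (h * T)) := by
              simp [mul_inv_rev, two_mul, pow_add, mul_assoc]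

          _ = _ := key
      have hz1 : z = 1 := mul_eq_right.1 (mul_right_cancel key2)
      rw [hTh, hz1, one_mul]
  let φ : Multiplicative K →* P := MonoidHom.mk' (fun s => x true s.toAdd) fun a b => by
    rw [toAdd_mul, S.add]
  have hst : ∀ s : K, steinWord φ T s = W s := fun s => by
    show x true s * (T * x true s⁻¹ * T⁻¹) * x true s = _
    rw [hTx, weylElt]
  refine ⟨φ, h, T, ⟨fun s => hx s, hth, fun s => ?_, hst 1, ?_, ?_⟩⟩
  · rw [pow_two]; exact hT2 _
  · rw [hst w, hh, inv_mul_cancel_right]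
  · rw [eq_top_iff, ← S.gen, Subgroup.closure_le]
    rintro _ ⟨⟨b, u⟩, rfl⟩
    have hmem : ∀ u, x true u ∈ Subgroup.closure (Set.range φ ∪ {h, T}) := fun u =>
      Subgroup.subset_closure (Or.inl ⟨ofAdd u, rfl⟩)
    have hTm : T ∈ Subgroup.closure (Set.range φ ∪ {h, T}) := Subgroup.subset_closure (Or.inr (Or.inr rfl))
    cases b
    · show x false u ∈ Subgroup.closure (Set.range φ ∪ {h, T})
      rw [← neg_neg u, ← hTx]
      exact mul_mem (mul_mem hTm (hmem _)) (inv_mem hTm)
    · exact hmem u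

/-- A group with the rank one Steinberg relations is no larger than `SL(2, q)`. -/
theorem card_le [Finite K] :
    Finite P ∧ Nat.card P ≤ (Nat.card K - 1) * Nat.card K * (Nat.card K + 1) := by
  classical
  cases nonempty_fintype K
  obtain ⟨g, hg⟩ := IsCyclic.exists_generator (α := Kˣ)
  have hgen : ∀ s : K, s ≠ 0 → ∃ e : ℕ, (g : K) ^ e = s := fun s hs => by
    obtain ⟨e, he⟩ := Submonoid.mem_powers_iff _ _ |>.1 (mem_powers_iff_mem_zpowers.2 (hg (Units.mk0 s hs)))
    exact ⟨e, by rw [← Units.val_pow_eq_pow_val, he, Units.val_mk0]⟩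
  obtain ⟨φ, h, t, A⟩ := S.axioms (Units.ne_zero g) hgen
  have hN : (g : K) ^ (Nat.card K - 1) = 1 := by
    rw [Nat.card_eq_fintype_card]; exact FiniteField.pow_card_sub_one_eq_one _ (Units.ne_zero g)
  exact A.card_le (Units.ne_zero g) hgen (by have := Finite.one_lt_card (α := K); omega)
    (A.h_pow_eq_one (Units.ne_zero g) hN)

end Stein

end CfsgLib.SL2Pres
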