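import Mathlib

/-!
# Words for the elements of a vector space over a prime field inside a group
-/

set_option autoImplicit false

open Multiplicative

namespace CfsgLib.SL2Pres

variable {p : ℕ} [Fact p.Prime] {F : Type*} [Field F] [Algebra (ZMod p) F]
  (pb : PowerBasis (ZMod p) F)

/-- The word of a field element in the conjugates of `u` by powers of `a`. -/
noncomputable def wordOn {P : Type*} [Group P] (u a : P) (x : F) : P :=
  ((List.finRange pb.dim).map fun i : Fin pb.dim => (a ^ (i : ℕ) * u * (a ^ (i : ℕ))⁻¹) ^ (pb.basis.repr x i).val).prod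

theorem map_wordOn {P Q : Type*} [Group P] [Group Q] (f : P →* Q) (u a : P) (x : F) :
    f (wordOn pb u a x) = wordOn pb (f u) (f a) x := by
  simp [wordOn, map_list_prod, List.map_map, Function.comp_def]

variable {pb}

theorem hom_eq_prod {P : Type*} [Group P] (φ : Multiplicative F →* P) (x : F) :
    φ (ofAdd x) =
      ((List.finRange pb.dim).map fun i : Fin pb.dim => φ (ofAdd (pb.gen ^ (i : ℕ))) ^ (pb.basis.repr x i).val).prod := by
  have hx : x = ((List.finRange pb.dim).map fun i : Fin pb.dim => (pb.basis.repr x i).val • pb.gen ^ (i : ℕ)).sum := by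
    rw [← Fin.sum_univ_def]
    conv_lhs => rw [← pb.basis.sum_repr x]
    refine Finset.sum_congr rfl fun i _ => ?_
    rw [pb.basis_eq_pow, ← Nat.cast_smul_eq_nsmul (ZMod p), ZMod.natCast_zmod_val]
  conv_lhs => rw [hx]
  rw [ofAdd_list_prod, map_list_prod, List.map_map, List.map_map]
  simp only [Function.comp_def, ofAdd_nsmul, map_pow]

/-- Two homomorphisms agreeing on the power basis are equal. -/
theorem hom_ext {P : Type*} [Group P] (φ ψ : Multiplicative F →* P)
    (h : ∀ i : Fin pb.dim, φ (ofAdd (pb.gen ^ (i : ℕ))) = ψ (ofAdd (pb.gen ^ (i : ℕ)))) : φ = ψ := by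
  refine MonoidHom.ext fun x => ?_
  rw [← ofAdd_toAdd x, hom_eq_prod (pb := pb) φ, hom_eq_prod (pb := pb) ψ]
  simp only [h]

theorem eval_wordOn {P : Type*} [Group P] (φ : Multiplicative F →* P) {u a : P}
    (h1 : φ (ofAdd 1) = u) (ha : ∀ x : F, a * φ (ofAdd x) * a⁻¹ = φ (ofAdd (pb.gen * x))) (x : F) :
    φ (ofAdd x) = wordOn pb u a x := by
  have key : ∀ i : ℕ, φ (ofAdd (pb.gen ^ i)) = a ^ i * u * (a ^ i)⁻¹ := by
    intro i
    induction i with
    | zero => simp [h1]
    | succ i ih => rw [pow_succ' pb.gen, ← ha, ih, pow_succ' a, mul_inv_rev]; simp only [mul_assoc]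
  rw [hom_eq_prod (pb := pb) φ, wordOn]
  simp only [key]

/-- Existence of the homomorphism from the defining relations. -/
theorem exists_hom {P : Type*} [Group P] {u a : P} (hup : u ^ p = 1)
    (hcomm : ∀ i j : Fin pb.dim, i ≠ j →
      Commute (a ^ (i : ℕ) * u * (a ^ (i : ℕ))⁻¹) (a ^ (j : ℕ) * u * (a ^ (j : ℕ))⁻¹))
    (htop : a ^ pb.dim * u * (a ^ pb.dim)⁻¹ = wordOn pb u a (pb.gen ^ pb.dim)) :
    ∃ φ : Multiplicative F →* P, φ (ofAdd 1) = u ∧
      (∀ x : F, a * φ (ofAdd x) * a⁻¹ = φ (ofAdd (pb.gen * x))) ∧ ∀ x : F, φ (ofAdd x) = wordOn pb u a x := by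
  classical
  let v : Fin pb.dim → P := fun i => a ^ (i : ℕ) * u * (a ^ (i : ℕ))⁻¹
  have hv : ∀ i, v i ^ p = 1 := fun i => by simp only [v]; rw [conj_pow, hup, mul_one, mul_inv_cancel]
  let ch : Fin pb.dim → (Multiplicative (ZMod p) →* P) := fun i =>
    AddMonoidHom.toMultiplicativeLeft (ZMod.lift p ⟨zmultiplesHom (Additive P) (Additive.ofMul (v i)), by
      apply Additive.toMul.injective
      simpa using hv i⟩)
  have hch : ∀ i (c : ZMod p), ch i (ofAdd c) = v i ^ c.val := by
    intro i c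
    have : (c : ZMod p) = ((c.val : ℤ) : ZMod p) := by simp
    conv_lhs => rw [this]
    simp only [ch, AddMonoidHom.coe_toMultiplicativeLeft, toAdd_ofAdd, Function.comp_apply, ZMod.lift_coe]
    simp [← ZMod.natCast_val]
  have hcm : Pairwise fun i j => ∀ x y, Commute (ch i x) (ch j y) := fun i j hij x y => by
    rw [← ofAdd_toAdd x, ← ofAdd_toAdd y, hch, hch]
    exact (hcomm i j hij).pow_pow _ _
  let R : Multiplicative F →* (Fin pb.dim → Multiplicative (ZMod p)) :=
    { toFun := fun x i => ofAdd (pb.basis.repr x.toAdd i)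
      map_one' := by funext i; simp
      map_mul' := fun x y => by funext i; simp }
  let φ : Multiplicative F →* P := (MonoidHom.noncommPiCoprod ch hcm).comp R
  have hbasis : ∀ i : Fin pb.dim, φ (ofAdd (pb.gen ^ (i : ℕ))) = v i := by
    intro i
    have hR : R (ofAdd (pb.gen ^ (i : ℕ))) = Pi.mulSingle i (ofAdd 1) := by
      funext j
      show ofAdd (pb.basis.repr (pb.gen ^ (i : ℕ)) j) = _
      rw [← pb.basis_eq_pow i, pb.basis.repr_self_apply]
      by_cases hij : i = j
      · subst hij; simp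
      · simp [hij, Pi.mulSingle_eq_of_ne (Ne.symm hij)]
    simp only [φ, MonoidHom.comp_apply, hR, MonoidHom.noncommPiCoprod_mulSingle, hch]
    have : Fact (1 < p) := ⟨(Fact.out : p.Prime).one_lt⟩
    simp [ZMod.val_one p]
  have hword : ∀ x : F, φ (ofAdd x) = wordOn pb u a x := fun x => by
    rw [hom_eq_prod (pb := pb) φ, wordOn]
    simp only [hbasis, v]
  have h1 : φ (ofAdd 1) = u := by
    have := hbasis ⟨0, pb.dim_pos⟩
    simpa [v] using this
  refine ⟨φ, h1, fun x => ?_, hword⟩
  have key : (MulAut.conj a).toMonoidHom.comp φ =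
      φ.comp (AddMonoidHom.toMultiplicative (AddMonoidHom.mulLeft pb.gen)) := by
    refine hom_ext (pb := pb) _ _ fun i => ?_
    show a * φ (ofAdd (pb.gen ^ (i : ℕ))) * a⁻¹ = φ (ofAdd (pb.gen * pb.gen ^ (i : ℕ)))
    rw [hbasis, ← pow_succ' pb.gen]
    by_cases hi : (i : ℕ) + 1 < pb.dim
    · rw [hbasis ⟨i + 1, hi⟩]
      simp only [v]
      rw [pow_succ' a, mul_inv_rev]
      simp only [mul_assoc]
    · have e : (i : ℕ) + 1 = pb.dim := by have := i.2; omega
      rw [e, hword, ← htop, ← e]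
      simp only [v]
      rw [pow_succ' a, mul_inv_rev]
      simp only [mul_assoc]
  exact DFunLike.congr_fun key (ofAdd x)

end CfsgLib.SL2Pres
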